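import Groth.Agent.L05.EtaPt.Rel
import Groth.Agent.L20.UnivHomeo
import Groth.Prelude.Def_HTop2
import Mathlib.AlgebraicGeometry.ResidueField

/-!
# The identity endofunctor and seminormalization
-/

universe u

open CategoryTheory AlgebraicGeometry

namespace Groth.L05.EtaPt

open _root_.EtaPt

variable {R S : Type u} [CommRing R] [CommRing S]

theorem residueFieldMap_specMap (φ : R →+* S) (x : Spec (CommRingCat.of S)) :
    (Spec.map (CommRingCat.ofHom φ)).residueFieldMap x ≫ (Scheme.Spec.residueFieldIso (.of S) x).hom =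
      (Scheme.Spec.residueFieldIso (.of R) ((Spec.map (CommRingCat.ofHom φ)) x)).hom ≫
        CommRingCat.ofHom (Ideal.ResidueField.map ((Spec.map (CommRingCat.ofHom φ)) x).asIdeal x.asIdeal φ rfl) := by
  apply Spec.map_injective
  rw [← cancel_mono ((Spec (.of R)).fromSpecResidueField _)]
  simp only [Spec.map_comp, Category.assoc]
  have h1 : ∀ (A : CommRingCat.{u}) (y : Spec A), Spec.map (Scheme.Spec.residueFieldIso A y).hom ≫
      (Spec A).fromSpecResidueField y = Spec.map (CommRingCat.ofHom (algebraMap A y.asIdeal.ResidueField)) :=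
    fun A y => by
      rw [← Scheme.Spec.map_residueFieldIso_inv_eq_fromSpecResidueField, ← Spec.map_comp_assoc,
        Iso.inv_hom_id, Spec.map_id, Category.id_comp]
  rw [Scheme.Hom.SpecMap_residueFieldMap_fromSpecResidueField, ← Category.assoc, h1, h1]
  rw [← Spec.map_comp, ← Spec.map_comp]
  congr 1
  ext r
  exact (Ideal.ResidueField.map_algebraMap _ _ φ rfl r).symm

theorem isIso_residueFieldMap_iff (φ : R →+* S) (x : Spec (CommRingCat.of S)) :
    IsIso ((Spec.map (CommRingCat.ofHom φ)).residueFieldMap x) ↔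
      Function.Bijective (Ideal.ResidueField.map (PrimeSpectrum.comap φ x).asIdeal x.asIdeal φ rfl) := by
  show _ ↔ Function.Bijective (Ideal.ResidueField.map ((Spec.map (CommRingCat.ofHom φ)) x).asIdeal x.asIdeal φ rfl)
  have hfun : ∀ z, (Scheme.Spec.residueFieldIso (.of S) x).hom
      ((Spec.map (CommRingCat.ofHom φ)).residueFieldMap x z) =
      Ideal.ResidueField.map ((Spec.map (CommRingCat.ofHom φ)) x).asIdeal x.asIdeal φ rfl
        ((Scheme.Spec.residueFieldIso (.of R) ((Spec.map (CommRingCat.ofHom φ)) x)).hom z) :=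
    fun z => congr($(residueFieldMap_specMap φ x).hom z)
  rw [ConcreteCategory.isIso_iff_bijective]
  have hl := ConcreteCategory.bijective_of_isIso (Scheme.Spec.residueFieldIso (.of S) x).hom
  have hr := ConcreteCategory.bijective_of_isIso
    (Scheme.Spec.residueFieldIso (.of R) ((Spec.map (CommRingCat.ofHom φ)) x)).hom
  constructor
  · intro h
    exact (hr.of_comp_iff _).mp (by
      convert hl.comp h using 1
      exact funext fun z => (hfun z).symm)
  · intro h
    exact (Function.Bijective.of_comp_iff' hl _).mp (by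
      convert h.comp hr using 1
      exact funext hfun)

theorem isUnivHomeo_residueIso_iff (φ : R →+* S) :
    (FlatMor.IsUnivHomeo (Spec.map (CommRingCat.ofHom φ)) ∧
        HTop.ResidueFieldsIso (Spec.map (CommRingCat.ofHom φ))) ↔
      φ.IsIntegral ∧ Function.Bijective (PrimeSpectrum.comap φ) ∧
        ResFactor FieldEndo.ident.{u} φ := by
  have hres : HTop.ResidueFieldsIso (Spec.map (CommRingCat.ofHom φ)) ↔
      ResFactor FieldEndo.ident.{u} φ := by
    refine forall_congr' fun x => ?_
    refine (isIso_residueFieldMap_iff φ x).trans ⟨fun h => ?_, fun ⟨ψ, hψ⟩ => ?_⟩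
    · exact ⟨(RingEquiv.ofBijective _ h).symm.toRingHom,
        RingHom.ext (RingEquiv.ofBijective _ h).symm_apply_apply⟩
    · refine ⟨RingHom.injective _, fun y => ⟨ψ y, ψ.injective ?_⟩⟩
      exact DFunLike.congr_fun hψ (ψ y)
  constructor
  · rintro ⟨hu, hr⟩
    refine ⟨IsIntegralHom.SpecMap_iff.mp (Groth.L20.isIntegralHom_of_isUnivHomeo hu), ?_, hres.mp hr⟩
    exact (Groth.L20.isHomeomorph_of_isUnivHomeo hu).bijective
  · rintro ⟨hi, hb, hr⟩
    refine ⟨?_, hres.mpr hr⟩
    haveI : IsIntegralHom (Spec.map (CommRingCat.ofHom φ)) := IsIntegralHom.SpecMap_iff.mpr hi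
    refine (Groth.L20.isUnivHomeo_iff _).mpr ⟨inferInstance, ?_, ⟨hb.2⟩⟩
    refine ((tfae_universallyInjective _).out 0 2 rfl rfl).mpr ⟨hb.1, fun x => ?_⟩
    haveI := hres.mpr hr x
    have hsurj := (ConcreteCategory.bijective_of_isIso
      ((Spec.map (CommRingCat.ofHom φ)).residueFieldMap x)).2
    letI := ((Spec.map (CommRingCat.ofHom φ)).residueFieldMap x).hom.toAlgebra
    exact ⟨Algebra.IsIntegral.of_surjective (Algebra.ofId _ _) hsurj, fun y _ => hsurj y⟩

theorem isRingSN_q_ident (A : Type u) [CommRing A] (hA : (minimalPrimes A).Finite) :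
    HTop.IsRingSN (FieldEndo.ident.{u}.q A) := by
  refine ⟨(isUnivHomeo_residueIso_iff _).mpr
    ⟨isIntegral_q _ A hA, bijective_comap_q hA, resFactor_q hA⟩, fun C _ ψ hu hr => ?_⟩
  obtain ⟨hi, hb, hres⟩ := (isUnivHomeo_residueIso_iff ψ).mp ⟨hu, hr⟩
  exact existsUnique_lift_q hA hi (bijective_Nmap hb hres)

theorem rel_ident (A B : Type u) [CommRing A] [CommRing B] [Algebra A B]
    (hA : (minimalPrimes A).Finite)
    (hs : Function.Surjective (PrimeSpectrum.comap (algebraMap A B))) :
    (FlatMor.IsUnivHomeo (Spec.map (CommRingCat.ofHom (FieldEndo.ident.{u}.qRel (algebraMap A B)))) ∧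
      HTop.ResidueFieldsIso
        (Spec.map (CommRingCat.ofHom (FieldEndo.ident.{u}.qRel (algebraMap A B))))) ∧
    ∀ C : Subalgebra A B,
      FlatMor.IsUnivHomeo (Spec.map (CommRingCat.ofHom (algebraMap A C))) →
      HTop.ResidueFieldsIso (Spec.map (CommRingCat.ofHom (algebraMap A C))) →
      C.toSubring ≤ FieldEndo.ident.{u}.rel (algebraMap A B) := by
  refine ⟨(isUnivHomeo_residueIso_iff _).mpr
    ⟨isIntegral_qRel hA hs, bijective_comap_qRel hA hs, resFactor_qRel hA hs⟩, fun C hu hr => ?_⟩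
  obtain ⟨hi, hb, hres⟩ := (isUnivHomeo_residueIso_iff _).mp ⟨hu, hr⟩
  have h := range_le_rel (η := FieldEndo.ident.{u}) (f₂ := C.val.toRingHom) hi (bijective_Nmap hb hres)
  rw [show C.val.toRingHom.comp (algebraMap A C) = algebraMap A B from C.val.comp_algebraMap] at h
  exact fun c hc => h ⟨⟨c, hc⟩, rfl⟩

end Groth.L05.EtaPt
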