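import Groth.Agent.L05.EtaPt.IrrComp
import Mathlib.RingTheory.Unramified.LocalStructure
import Mathlib.RingTheory.Unramified.Finite
import Mathlib.RingTheory.RingHom.FinitePresentation
import Mathlib.RingTheory.Etale.Basic
import Mathlib.RingTheory.Smooth.Flat
import Mathlib.LinearAlgebra.TensorProduct.Quotient

/-!
# Flat unramified algebras of finite type are of finite presentation when the base has finitely many minimal primes
-/

set_option autoImplicit false

universe u

namespace Groth.L05.EtaPt

open TensorProduct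

/-- Membership in a pure ideal. -/
theorem exists_mul_eq_self_of_flat {S : Type u} [CommRing S] {J : Ideal S} [Module.Flat S (S ⧸ J)] {x : S}
    (hx : x ∈ J) : ∃ y ∈ J, y * x = x := by
  let N : Submodule S S := Ideal.span {x}
  let z : N := ⟨x, Ideal.mem_span_singleton_self x⟩
  have h0 : (1 : S ⧸ J) ⊗ₜ[S] z = 0 := by
    apply Module.Flat.lTensor_preserves_injective_linearMap (M := S ⧸ J) N.subtype N.injective_subtype
    rw [map_zero, LinearMap.lTensor_tmul]
    apply (TensorProduct.rid S (S ⧸ J)).injective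
    rw [map_zero, TensorProduct.rid_tmul]
    show x • (1 : S ⧸ J) = 0
    rw [Algebra.smul_def, mul_one]
    exact Ideal.Quotient.eq_zero_iff_mem.mpr hx
  have h1 := congrArg (TensorProduct.quotTensorEquivQuotSMul N J) h0
  rw [map_zero, show (1 : S ⧸ J) = Ideal.Quotient.mk J 1 from rfl, TensorProduct.quotTensorEquivQuotSMul_mk_tmul,
    one_smul, Submodule.Quotient.mk_eq_zero] at h1
  have h2 : x ∈ J • N := by
    have := Submodule.mem_map_of_mem (f := N.subtype) h1
    rwa [Submodule.map_smul'', Submodule.map_top, Submodule.range_subtype] at this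
  exact Ideal.mem_mul_span_singleton.mp h2

/-- A pure ideal is generated by an idempotent when there are finitely many minimal primes. -/
theorem exists_idempotent_of_flat {S : Type u} [CommRing S] (hS : (minimalPrimes S).Finite) {J : Ideal S}
    [Module.Flat S (S ⧸ J)] : ∃ c : S, IsIdempotentElem c ∧ J = Ideal.span {c} := by
  have hgen : ∀ P Q : PrimeSpectrum S, J ≤ P.asIdeal → Q.asIdeal ≤ P.asIdeal → J ≤ Q.asIdeal := by
    intro P Q hP hQP x hx
    obtain ⟨y, hy, hyx⟩ := exists_mul_eq_self_of_flat hx
    have h0 : (1 - y) * x ∈ Q.asIdeal := by rw [sub_mul, one_mul, hyx, sub_self]; exact Q.asIdeal.zero_mem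
    refine (Q.2.mem_or_mem h0).resolve_left fun h => P.2.ne_top ((Ideal.eq_top_iff_one _).mpr ?_)
    simpa using add_mem (hQP h) (hP hy)
  have hcl : (PrimeSpectrum.zeroLocus (J : Set S))ᶜ =
      ⋃ q ∈ {q ∈ minimalPrimes S | ¬ J ≤ q}, PrimeSpectrum.zeroLocus (q : Set S) := by
    ext P
    simp only [Set.mem_compl_iff, PrimeSpectrum.mem_zeroLocus, SetLike.coe_subset_coe, Set.mem_iUnion,
      Set.mem_setOf_eq, exists_prop]
    constructor
    · intro hP
      obtain ⟨q, hq, hqP⟩ := Ideal.exists_minimalPrimes_le (I := (⊥ : Ideal S)) (J := P.asIdeal) bot_le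
      exact ⟨q, ⟨hq, fun h => hP (h.trans hqP)⟩, hqP⟩
    · rintro ⟨q, ⟨hq, hJq⟩, hqP⟩ hP
      exact hJq (hgen P ⟨q, hq.1.1⟩ hP hqP)
  have hclopen : IsClopen (PrimeSpectrum.zeroLocus (J : Set S)) := by
    refine ⟨PrimeSpectrum.isClosed_zeroLocus _, isClosed_compl_iff.mp ?_⟩
    rw [hcl]
    exact (hS.subset fun q hq => hq.1).isClosed_biUnion fun q _ => PrimeSpectrum.isClosed_zeroLocus _
  obtain ⟨c, hc, hJc⟩ := PrimeSpectrum.isClopen_iff_zeroLocus.mp hclopen
  have hrad : J.radical = (Ideal.span {c}).radical := by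
    apply PrimeSpectrum.zeroLocus_eq_iff.mp
    rw [hJc, PrimeSpectrum.zeroLocus_span]
  refine ⟨c, hc, le_antisymm (fun x hx => ?_) ?_⟩
  · obtain ⟨y, hy, hyx⟩ := exists_mul_eq_self_of_flat hx
    have hy' : y ∈ (Ideal.span {c}).radical := hrad ▸ Ideal.le_radical hy
    obtain ⟨n, hn⟩ := hy'
    obtain ⟨b, hb⟩ := Ideal.mem_span_singleton'.mp hn
    have hpow : ∀ k, y ^ k * x = x := fun k => by
      induction k with
      | zero => simp
      | succ k ih => rw [pow_succ, mul_assoc, hyx, ih]
    exact Ideal.mem_span_singleton'.mpr ⟨b * x, by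
      calc b * x * c = (b * c) * x := by ring
        _ = x := by rw [hb, hpow]⟩
  · rw [Ideal.span_singleton_le_iff_mem]
    obtain ⟨n, hn⟩ : c ∈ J.radical := hrad ▸ Ideal.le_radical (Ideal.mem_span_singleton_self c)
    rcases Nat.eq_zero_or_pos n with rfl | hn'
    · rw [pow_zero] at hn
      simpa using J.mul_mem_left c hn
    · obtain ⟨m, rfl⟩ : ∃ m, n = m + 1 := ⟨n - 1, by omega⟩
      rwa [hc.pow_succ_eq m] at hn

variable {R B : Type u} [CommRing R] [CommRing B] [Algebra R B]

theorem exists_finitePresentation_away (hR : (minimalPrimes R).Finite) [Algebra.FiniteType R B]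
    [Module.Flat R B] [Algebra.FormallyUnramified R B] (Q : Ideal B) [Q.IsPrime] :
    ∃ f ∉ Q, Algebra.FinitePresentation R (Localization.Away f) := by
  obtain ⟨f, hfQ, P, φ, hφ⟩ := Algebra.IsUnramifiedAt.exists_hasStandardEtaleSurjectionOn (R := R) Q
  refine ⟨f, hfQ, ?_⟩
  letI : Algebra P.Ring (Localization.Away f) := φ.toRingHom.toAlgebra
  haveI : IsScalarTower R P.Ring (Localization.Away f) := IsScalarTower.of_algebraMap_eq fun r => (φ.commutes r).symm
  haveI : Module.Flat B (Localization.Away f) := IsLocalization.flat _ (Submonoid.powers f)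
  haveI : Module.Flat R (Localization.Away f) := Module.Flat.trans R B (Localization.Away f)
  haveI : Module.Flat P.Ring (Localization.Away f) :=
    Algebra.FormallyUnramified.flat_of_restrictScalars R P.Ring (Localization.Away f)
  let e : (P.Ring ⧸ RingHom.ker φ) ≃ₐ[P.Ring] Localization.Away f :=
    Ideal.quotientKerAlgEquivOfSurjective (f := Algebra.ofId P.Ring (Localization.Away f)) hφ
  haveI : Module.Flat P.Ring (P.Ring ⧸ RingHom.ker φ) := Module.Flat.of_linearEquiv e.toLinearEquiv
  obtain ⟨c, -, hc⟩ := exists_idempotent_of_flat (minimalPrimes_finite_of_flat R P.Ring hR) (J := RingHom.ker φ)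
  have hfg : (RingHom.ker φ).FG := hc ▸ Submodule.fg_span_singleton c
  exact Algebra.FinitePresentation.of_surjective hφ hfg

theorem etale_of_flat_of_formallyUnramified (hR : (minimalPrimes R).Finite) [Algebra.FiniteType R B]
    [Module.Flat R B] [Algebra.FormallyUnramified R B] : Algebra.Etale R B := by
  let s : Set B := {f | Algebra.FinitePresentation R (Localization.Away f)}
  have hs : Ideal.span s = ⊤ := by
    by_contra h
    obtain ⟨M, hM, hsM⟩ := Ideal.exists_le_maximal _ h
    haveI := hM.isPrime
    obtain ⟨f, hf, hfp⟩ := exists_finitePresentation_away (R := R) hR M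
    exact hf (hsM (Ideal.subset_span hfp))
  haveI : Algebra.FinitePresentation R B := Algebra.FinitePresentation.of_span_eq_top_target s hs fun r hr => hr
  rw [← RingHom.etale_algebraMap, RingHom.Etale.iff_flat_and_formallyUnramified]
  exact ⟨RingHom.flat_algebraMap_iff.mpr inferInstance,
    RingHom.formallyUnramified_algebraMap.mpr inferInstance,
    RingHom.finitePresentation_algebraMap.mpr inferInstance⟩

end Groth.L05.EtaPt
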