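import Groth.Agent.L05.EtaPt.Mem
import Mathlib.RingTheory.Valuation.LocalSubring
import Mathlib.RingTheory.IntegralClosure.Algebra.Basic
import Mathlib.RingTheory.Ideal.GoingUp
import Mathlib.RingTheory.Spectrum.Prime.RingHom
import Mathlib.RingTheory.Ideal.MinimalPrime.Basic

/-!
# Structure of `M η A`: integrality, spectrum and residue fields
-/

universe u

namespace Groth.L05.EtaPt

open _root_.EtaPt IsLocalRing Polynomial

variable {η : FieldEndo.{u}}

theorem exists_dominating {A L : Type u} [CommRing A] [Field L] (φ : A →+* L) (q : PrimeSpectrum A)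
    (hq : RingHom.ker φ ≤ q.asIdeal) :
    ∃ (V : ValuationSubring L) (g : A →+* V), V.subtype.comp g = φ ∧
      (maximalIdeal V).comap g = q.asIdeal := by
  let φq : Localization.AtPrime q.asIdeal →+* L :=
    IsLocalization.lift (M := q.asIdeal.primeCompl) (g := φ) fun y =>
      IsUnit.mk0 _ fun h0 => y.2 (hq h0)
  obtain ⟨V, hV, hloc⟩ := IsLocalRing.exists_factor_valuationRing φq
  refine ⟨V, (φq.codRestrict V.toSubring hV).comp (algebraMap A _), ?_, ?_⟩
  · exact IsLocalization.lift_comp _
  · have h2 : Ideal.comap (φq.codRestrict V.toSubring hV) (maximalIdeal V) =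
        maximalIdeal (Localization.AtPrime q.asIdeal) :=
      ((IsLocalRing.local_hom_TFAE (S := V) (φq.codRestrict V.toSubring hV)).out 0 4 rfl rfl).mp hloc
    refine Eq.trans ?_ (IsLocalization.AtPrime.comap_maximalIdeal (Localization.AtPrime q.asIdeal) q.asIdeal)
    rw [← h2]
    rfl

/-- The residue map of a valuation subring, composed with `η`. -/
noncomputable def closedPoint (η : FieldEndo.{u}) (R : Type u) [CommRing R] [IsLocalRing R] :
    R →+* η.obj (ResidueField R) :=
  (η.eta (ResidueField R)).comp (residue R)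

theorem closedPoint_eq_zero_iff {R : Type u} [CommRing R] [IsLocalRing R] (r : R) :
    closedPoint η R r = 0 ↔ r ∈ maximalIdeal R := by
  rw [closedPoint, RingHom.comp_apply, map_eq_zero, residue_eq_zero_iff]

theorem apply_eq_zero_iff_of_ker {A L : Type u} [CommRing A] [Field L]
    (hL : Function.Bijective (η.eta L)) (φ : A →+* L) {p : PrimeSpectrum A}
    (hp : ∀ a, φ a = 0 ↔ a ∈ p.asIdeal) (x : η.N A) : ev hL φ x = 0 ↔ x p = 0 := by
  have : pt φ = p := PrimeSpectrum.ext (Ideal.ext hp)
  obtain ⟨h, -, he⟩ := exists_point_hom hL φ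
  rw [he, map_eq_zero, this]

/-- Values of elements of `M η A` specialise: the value at a field point determines whether the value
at a more special point vanishes. -/
theorem apply_eq_zero_of_le {A : Type u} [CommRing A] {x : η.N A} (hx : x ∈ η.M A)
    {p q : PrimeSpectrum A} (hpq : p.asIdeal ≤ q.asIdeal) (hp : x p = 0) : x q = 0 := by
  obtain ⟨V, g, hg, hmax⟩ := exists_dominating (pointMap η p) q
    (fun a ha => hpq ((ker_pointMap p a).mp ha))
  obtain ⟨r, hr, hclosed⟩ := exists_value_subring (bijective_eta_obj η _) hx V g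
  rw [hg, ev_pointMap, hp] at hr
  have hr0 : r = 0 := Subtype.ext hr.symm
  have h2 := hclosed _ (bijective_eta_obj η _) (closedPoint η V)
  rw [hr0, map_zero] at h2
  refine (apply_eq_zero_iff_of_ker (bijective_eta_obj η _) _ (fun a => ?_) x).mp h2
  rw [RingHom.comp_apply, closedPoint_eq_zero_iff, ← Ideal.mem_comap, hmax]

theorem ext_of_minimalPrimes {A : Type u} [CommRing A] {x y : η.N A} (hx : x ∈ η.M A)
    (hy : y ∈ η.M A) (h : ∀ p : PrimeSpectrum A, p.asIdeal ∈ minimalPrimes A → x p = y p) :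
    x = y := by
  funext q
  obtain ⟨p₀, hp₀, hle⟩ := Ideal.exists_minimalPrimes_le (bot_le : ⊥ ≤ q.asIdeal)
  have := apply_eq_zero_of_le ((η.M A).sub_mem hx hy) (p := ⟨p₀, hp₀.1.1⟩) hle
    (by rw [Pi.sub_apply, h ⟨p₀, hp₀.1.1⟩ hp₀, sub_self])
  rwa [Pi.sub_apply, sub_eq_zero] at this

theorem isIntegralElem_ev {A L : Type u} [CommRing A] [Field L]
    (hL : Function.Bijective (η.eta L)) {x : η.N A} (hx : x ∈ η.M A) (φ : A →+* L) :
    φ.IsIntegralElem (ev hL φ x) := by
  letI := φ.toAlgebra
  suffices ev hL φ x ∈ integralClosure A L from this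
  by_contra hne
  haveI : IsIntegrallyClosedIn (integralClosure A L).toSubring L :=
    (Subring.isIntegrallyClosedIn_iff).mpr fun {z} hz => by
      obtain ⟨z₀, hz₀⟩ := (show IsIntegral (integralClosure A L) z → z ∈ integralClosure A L from
        fun h => isIntegral_trans z h) hz
      exact ⟨z₀, hz₀⟩
  obtain ⟨V, hV, hxV⟩ := Subring.exists_le_valuationSubring_of_isIntegrallyClosedIn
    (R := (integralClosure A L).toSubring) hne
  let g : A →+* V := φ.codRestrict V.toSubring fun a => hV (isIntegral_algebraMap (R := A) (A := L) (x := a))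
  obtain ⟨r, hr, -⟩ := exists_value_subring hL hx V g
  refine hxV ?_
  rw [show φ = V.subtype.comp g from rfl, hr]
  exact r.2

/-- The evaluation of `M η A` at a point. -/
noncomputable def evM (η : FieldEndo.{u}) {A : Type u} [CommRing A] (p : PrimeSpectrum A) :
    η.M A →+* η.obj p.asIdeal.ResidueField :=
  (Pi.evalRingHom (fun p : PrimeSpectrum A => η.obj p.asIdeal.ResidueField) p).comp (η.M A).subtype

theorem evM_comp_q {A : Type u} [CommRing A] (p : PrimeSpectrum A) :
    (evM η p).comp (η.q A) = pointMap η p := rfl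

theorem isIntegral_q (η : FieldEndo.{u}) (A : Type u) [CommRing A] (hA : (minimalPrimes A).Finite) :
    (η.q A).IsIntegral := by
  intro x
  have hint : ∀ p : PrimeSpectrum A, ∃ P : A[X], P.Monic ∧
      P.eval₂ (pointMap η p) (evM η p x) = 0 := fun p => by
    have := isIntegralElem_ev (bijective_eta_obj η _) x.2 (pointMap η p)
    rwa [ev_pointMap] at this
  choose P hPm hP using hint
  haveI := hA.fintype
  let Q : A[X] := ∏ p : minimalPrimes A, P ⟨p.1, Ideal.minimalPrimes_isPrime p.2⟩
  refine ⟨Q, monic_prod_of_monic _ _ fun p _ => hPm _, ?_⟩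
  refine Subtype.ext (ext_of_minimalPrimes (Subtype.mem _) (η.M A).zero_mem fun p hp => ?_)
  show evM η p (Q.eval₂ (η.q A) x) = 0
  rw [hom_eval₂, evM_comp_q, eval₂_finsetProd]
  exact Finset.prod_eq_zero (Finset.mem_univ ⟨p.asIdeal, hp⟩) (hP p)

/-- The prime of `M η A` over a point. -/
noncomputable def primeOver (η : FieldEndo.{u}) {A : Type u} [CommRing A] (p : PrimeSpectrum A) :
    PrimeSpectrum (η.M A) :=
  ⟨RingHom.ker (evM η p), RingHom.ker_isPrime _⟩

theorem comap_primeOver {A : Type u} [CommRing A] (p : PrimeSpectrum A) :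
    PrimeSpectrum.comap (η.q A) (primeOver η p) = p := by
  refine PrimeSpectrum.ext (Ideal.ext fun a => ?_)
  exact ker_pointMap p a

theorem eq_primeOver {A : Type u} [CommRing A] (hA : (minimalPrimes A).Finite)
    (Q : PrimeSpectrum (η.M A)) : Q = primeOver η (PrimeSpectrum.comap (η.q A) Q) := by
  obtain ⟨p₀, hp₀Q⟩ : ∃ p₀ : PrimeSpectrum A, RingHom.ker (evM η p₀) ≤ Q.asIdeal := by
    haveI := hA.fintype
    have hprod : ∏ p : minimalPrimes A,
        RingHom.ker (evM η ⟨p.1, Ideal.minimalPrimes_isPrime p.2⟩) ≤ Q.asIdeal := by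
      refine le_trans Ideal.prod_le_inf ?_
      intro z hz
      rw [Submodule.mem_finsetInf] at hz
      have : z = 0 := Subtype.ext (ext_of_minimalPrimes z.2 (η.M A).zero_mem fun p hp =>
        hz ⟨p.asIdeal, hp⟩ (Finset.mem_univ _))
      rw [this]
      exact Q.asIdeal.zero_mem
    obtain ⟨p, -, hp⟩ := (Q.isPrime.prod_le).mp hprod
    exact ⟨_, hp⟩
  obtain ⟨V, G, hG, hmax⟩ := exists_dominating (evM η p₀) Q hp₀Q
  refine PrimeSpectrum.ext (Ideal.ext fun x => ?_)
  obtain ⟨r, hr, hclosed⟩ := exists_value_subring (bijective_eta_obj η _) x.2 V (G.comp (η.q A))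
  have hphi : V.subtype.comp (G.comp (η.q A)) = pointMap η p₀ := by
    rw [← RingHom.comp_assoc, hG, evM_comp_q]
  rw [hphi, ev_pointMap] at hr
  have hrx : r = G x := Subtype.ext (hr.symm.trans (DFunLike.congr_fun hG x).symm)
  have h2 := hclosed _ (bijective_eta_obj η _) (closedPoint η V)
  have h3 := apply_eq_zero_iff_of_ker (bijective_eta_obj η _)
    ((closedPoint η V).comp (G.comp (η.q A))) (p := PrimeSpectrum.comap (η.q A) Q) (fun a => by
      rw [RingHom.comp_apply, closedPoint_eq_zero_iff, RingHom.comp_apply, ← Ideal.mem_comap, hmax]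
      rfl) (x : η.N A)
  rw [h2, hrx, closedPoint_eq_zero_iff, ← Ideal.mem_comap, hmax] at h3
  exact h3

theorem bijective_comap_q {A : Type u} [CommRing A] (hA : (minimalPrimes A).Finite) :
    Function.Bijective (PrimeSpectrum.comap (η.q A)) := by
  refine ⟨fun Q Q' h => ?_, fun p => ⟨primeOver η p, comap_primeOver p⟩⟩
  rw [eq_primeOver hA Q, h, ← eq_primeOver hA Q']

/-- Residue fields of `B` embed into `η` of those of `A` over `η`. -/
def ResFactor (η : FieldEndo.{u}) {A B : Type u} [CommRing A] [CommRing B] (f : A →+* B) : Prop :=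
  ∀ Q : PrimeSpectrum B,
    ∃ φ : Q.asIdeal.ResidueField →+* η.obj (PrimeSpectrum.comap f Q).asIdeal.ResidueField,
      φ.comp (Ideal.ResidueField.map (PrimeSpectrum.comap f Q).asIdeal Q.asIdeal f rfl) =
        η.eta (PrimeSpectrum.comap f Q).asIdeal.ResidueField

theorem resFactor_iff_forall_exists_hom {A B : Type u} [CommRing A] [CommRing B] (f : A →+* B) :
    ResFactor η f ↔ ∀ Q : PrimeSpectrum B,
      ∃ F : B →+* η.obj (PrimeSpectrum.comap f Q).asIdeal.ResidueField,
        (∀ b, F b = 0 ↔ b ∈ Q.asIdeal) ∧ F.comp f = pointMap η (PrimeSpectrum.comap f Q) := by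
  refine forall_congr' fun Q => ⟨?_, ?_⟩
  · rintro ⟨φ, hφ⟩
    refine ⟨φ.comp (algebraMap B Q.asIdeal.ResidueField), fun b => ?_, RingHom.ext fun a => ?_⟩
    · rw [RingHom.comp_apply, map_eq_zero, Ideal.algebraMap_residueField_eq_zero]
    · rw [pointMap, RingHom.comp_apply, RingHom.comp_apply, RingHom.comp_apply, ← hφ,
        RingHom.comp_apply, Ideal.ResidueField.map_algebraMap]
  · rintro ⟨F, hF, hFf⟩
    refine ⟨Ideal.ResidueField.lift Q.asIdeal F (fun b hb => (hF b).mpr hb)
      (fun b hb => isUnit_iff_ne_zero.mpr fun h0 => hb ((hF b).mp h0)), ?_⟩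
    refine Ideal.ResidueField.ringHom_ext (RingHom.ext fun a => ?_)
    rw [RingHom.comp_apply, RingHom.comp_apply, Ideal.ResidueField.map_algebraMap,
      Ideal.ResidueField.lift_algebraMap, ← RingHom.comp_apply F, hFf]
    rfl

theorem resFactor_q {A : Type u} [CommRing A] (hA : (minimalPrimes A).Finite) :
    ResFactor η (η.q A) := by
  rw [resFactor_iff_forall_exists_hom]
  intro Q
  refine ⟨evM η (PrimeSpectrum.comap (η.q A) Q), fun x => ?_, evM_comp_q _⟩
  conv_rhs => rw [eq_primeOver hA Q]
  rfl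

end Groth.L05.EtaPt
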