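import Groth.Prelude.Def_W4c1chowmix47Eta
import Mathlib.Algebra.CharP.Reduced
import Mathlib.Algebra.CharP.Algebra
import Mathlib.RingTheory.Valuation.LocalSubring

/-!
# Evaluation of the pointwise construction at field valued points

If `η` is bijective at a field `L`, a ring map `φ : A → L` has a unique extension
`ev φ : N η A → L`; every identity in `N η A` is checked through these evaluations.
-/

universe u

namespace Groth.L05.EtaPt

open _root_.EtaPt

variable (η : FieldEndo.{u})

theorem eq_of_pow_expChar {L : Type u} [Field L] (q : ℕ) [ExpChar L q] (n : ℕ) {x y : L}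
    (h : x ^ q ^ n = y ^ q ^ n) : x = y :=
  iterateFrobenius_inj L q n h

theorem expChar_obj (K : Type u) [Field K] : ExpChar (η.obj K) (ringExpChar K) :=
  expChar_of_injective_ringHom (η.eta K).injective _

theorem hom_ext {K L : Type u} [Field K] [Field L] {f g : η.obj K →+* L}
    (h : ∀ a, f (η.eta K a) = g (η.eta K a)) : f = g := by
  refine RingHom.ext fun x => ?_
  obtain ⟨n, a, ha⟩ := η.exists_pow_mem_range_eta K x
  haveI := expChar_obj η K
  haveI : ExpChar L (ringExpChar K) := expChar_of_injective_ringHom f.injective _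
  refine eq_of_pow_expChar (ringExpChar K) n ?_
  rw [← map_pow, ← map_pow, ← ha, h]

theorem eta_natural_apply {K L : Type u} [Field K] [Field L] (f : K →+* L) (a : K) :
    η.map f (η.eta K a) = η.eta L (f a) :=
  DFunLike.congr_fun (η.eta_natural f) a

theorem map_eta (K : Type u) [Field K] : η.map (η.eta K) = η.eta (η.obj K) :=
  hom_ext η fun a => eta_natural_apply η (η.eta K) a

theorem bijective_eta_obj (K : Type u) [Field K] : Function.Bijective (η.eta (η.obj K)) :=
  map_eta η K ▸ η.bijective_map_eta K

theorem bijective_eta_of_equiv {K L : Type u} [Field K] [Field L] (e : K ≃+* L)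
    (h : Function.Bijective (η.eta K)) : Function.Bijective (η.eta L) := by
  refine ⟨(η.eta L).injective, fun y => ?_⟩
  obtain ⟨k, hk⟩ := h.2 (η.map e.symm.toRingHom y)
  refine ⟨e k, ?_⟩
  rw [show e k = e.toRingHom k from rfl, ← eta_natural_apply, hk, ← RingHom.comp_apply,
    ← η.map_comp, show e.toRingHom.comp e.symm.toRingHom = RingHom.id L from
      RingHom.ext e.apply_symm_apply, η.map_id]
  rfl

theorem bijective_eta_of_ringExpChar_eq_one {K : Type u} [Field K] (h : ringExpChar K = 1) :
    Function.Bijective (η.eta K) := by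
  refine ⟨(η.eta K).injective, fun y => ?_⟩
  obtain ⟨n, a, ha⟩ := η.exists_pow_mem_range_eta K y
  refine ⟨a, ?_⟩
  rw [ha, h, one_pow, pow_one]

variable {η}

/-- The inverse of `η` at a field where it is bijective. -/
noncomputable def etaInv {L : Type u} [Field L] (hL : Function.Bijective (η.eta L)) :
    η.obj L →+* L :=
  (RingEquiv.ofBijective (η.eta L) hL).symm.toRingHom

theorem eta_etaInv {L : Type u} [Field L] (hL : Function.Bijective (η.eta L)) (y : η.obj L) :
    η.eta L (etaInv hL y) = y :=
  (RingEquiv.ofBijective (η.eta L) hL).apply_symm_apply y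

theorem etaInv_eta {L : Type u} [Field L] (hL : Function.Bijective (η.eta L)) (x : L) :
    etaInv hL (η.eta L x) = x :=
  (RingEquiv.ofBijective (η.eta L) hL).symm_apply_apply x

/-- The extension of a field map along `η`. -/
noncomputable def liftObj {K L : Type u} [Field K] [Field L] (hL : Function.Bijective (η.eta L))
    (f : K →+* L) : η.obj K →+* L :=
  (etaInv hL).comp (η.map f)

theorem liftObj_eta {K L : Type u} [Field K] [Field L] (hL : Function.Bijective (η.eta L))
    (f : K →+* L) (a : K) : liftObj hL f (η.eta K a) = f a := by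
  rw [liftObj, RingHom.comp_apply, eta_natural_apply, etaInv_eta]

/-- The point of `Spec A` under a map to a field. -/
noncomputable def pt {A L : Type u} [CommRing A] [Field L] (φ : A →+* L) : PrimeSpectrum A :=
  ⟨RingHom.ker φ, RingHom.ker_isPrime φ⟩

/-- The point map `A → F(k(p))`. -/
noncomputable def pointMap (η : FieldEndo.{u}) {A : Type u} [CommRing A] (p : PrimeSpectrum A) :
    A →+* η.obj p.asIdeal.ResidueField :=
  (η.eta p.asIdeal.ResidueField).comp (algebraMap A p.asIdeal.ResidueField)

/-- The evaluation of `N η A` at a field valued point. -/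
noncomputable def ev {A L : Type u} [CommRing A] [Field L] (hL : Function.Bijective (η.eta L))
    (φ : A →+* L) : η.N A →+* L :=
  (liftObj hL (Ideal.ResidueField.lift (pt φ).asIdeal φ le_rfl fun _ hx =>
    isUnit_iff_ne_zero.mpr hx)).comp
    (Pi.evalRingHom (fun p : PrimeSpectrum A => η.obj p.asIdeal.ResidueField) (pt φ))

theorem obj_hom_ext {A L : Type u} [CommRing A] [Field L] {p : PrimeSpectrum A}
    {f g : η.obj p.asIdeal.ResidueField →+* L}
    (h : ∀ a, f (pointMap η p a) = g (pointMap η p a)) : f = g := by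
  refine hom_ext η fun x => ?_
  exact DFunLike.congr_fun (Ideal.ResidueField.ringHom_ext
    (f := f.comp (η.eta _)) (g := g.comp (η.eta _)) (RingHom.ext h)) x

/-- The universal tool: `ev φ` is any map out of the component which extends `φ`. -/
theorem ev_eq {A L : Type u} [CommRing A] [Field L] (hL : Function.Bijective (η.eta L))
    (φ : A →+* L) {p : PrimeSpectrum A} (h : η.obj p.asIdeal.ResidueField →+* L)
    (hh : ∀ a, h (pointMap η p a) = φ a) (x : η.N A) : ev hL φ x = h (x p) := by
  have hp : pt φ = p := by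
    refine PrimeSpectrum.ext (Ideal.ext fun a => ?_)
    show φ a = 0 ↔ _
    rw [← hh, map_eq_zero, pointMap, RingHom.comp_apply, map_eq_zero,
      Ideal.algebraMap_residueField_eq_zero]
  subst hp
  refine DFunLike.congr_fun (obj_hom_ext (f := liftObj hL _) (g := h) fun a => ?_) _
  rw [hh, pointMap, RingHom.comp_apply, liftObj_eta, Ideal.ResidueField.lift_algebraMap]

theorem exists_point_hom {A L : Type u} [CommRing A] [Field L] (hL : Function.Bijective (η.eta L))
    (φ : A →+* L) : ∃ h : η.obj (pt φ).asIdeal.ResidueField →+* L,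
      (∀ a, h (pointMap η (pt φ) a) = φ a) ∧ ∀ x, ev hL φ x = h (x (pt φ)) :=
  ⟨liftObj hL _, fun a => by
    rw [pointMap, RingHom.comp_apply, liftObj_eta, Ideal.ResidueField.lift_algebraMap],
    fun _ => rfl⟩

theorem ev_t {A L : Type u} [CommRing A] [Field L] (hL : Function.Bijective (η.eta L))
    (φ : A →+* L) (a : A) : ev hL φ (η.t A a) = φ a := by
  obtain ⟨h, hh, he⟩ := exists_point_hom hL φ
  rw [he]
  exact hh a

theorem ev_pointMap {A : Type u} [CommRing A] (p : PrimeSpectrum A) (x : η.N A) :
    ev (bijective_eta_obj η p.asIdeal.ResidueField) (pointMap η p) x = x p :=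
  ev_eq _ _ (RingHom.id _) (fun _ => rfl) x

theorem ev_comp_hom {A L L' : Type u} [CommRing A] [Field L] [Field L']
    (hL : Function.Bijective (η.eta L)) (hL' : Function.Bijective (η.eta L')) (φ : A →+* L)
    (σ : L →+* L') (x : η.N A) : ev hL' (σ.comp φ) x = σ (ev hL φ x) := by
  obtain ⟨h, hh, he⟩ := exists_point_hom hL φ
  rw [he]
  exact ev_eq hL' _ (σ.comp h) (fun a => by rw [RingHom.comp_apply, hh]; rfl) x

theorem ev_Nmap {A B L : Type u} [CommRing A] [CommRing B] [Field L]
    (hL : Function.Bijective (η.eta L)) (f : A →+* B) (φ : B →+* L) (x : η.N A) :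
    ev hL φ (η.Nmap f x) = ev hL (φ.comp f) x := by
  obtain ⟨h, hh, he⟩ := exists_point_hom hL φ
  rw [he]
  symm
  refine ev_eq hL (φ.comp f) (p := PrimeSpectrum.comap f (pt φ))
    (h.comp (η.map (Ideal.ResidueField.map _ (pt φ).asIdeal f rfl))) (fun a => ?_) x
  rw [RingHom.comp_apply, pointMap, RingHom.comp_apply, eta_natural_apply,
    Ideal.ResidueField.map_algebraMap]
  exact hh (f a)

theorem ext_ev {A : Type u} [CommRing A] {x y : η.N A}
    (h : ∀ p : PrimeSpectrum A, ev (bijective_eta_obj η p.asIdeal.ResidueField) (pointMap η p) x =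
      ev (bijective_eta_obj η p.asIdeal.ResidueField) (pointMap η p) y) : x = y := by
  funext p
  simpa only [ev_pointMap] using h p

theorem Nmap_Nmap {A B C : Type u} [CommRing A] [CommRing B] [CommRing C] (f : A →+* B)
    (g : B →+* C) (x : η.N A) : η.Nmap g (η.Nmap f x) = η.Nmap (g.comp f) x :=
  ext_ev fun p => by rw [ev_Nmap, ev_Nmap, ev_Nmap, RingHom.comp_assoc]

theorem Nmap_id {A : Type u} [CommRing A] (x : η.N A) : η.Nmap (RingHom.id A) x = x :=
  ext_ev fun p => by rw [ev_Nmap, RingHom.comp_id]

theorem ker_pointMap {A : Type u} [CommRing A] (p : PrimeSpectrum A) (a : A) :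
    pointMap η p a = 0 ↔ a ∈ p.asIdeal := by
  rw [pointMap, RingHom.comp_apply, map_eq_zero, Ideal.algebraMap_residueField_eq_zero]

theorem t_apply_eq_zero_iff {A : Type u} [CommRing A] (a : A) : η.t A a = 0 ↔ IsNilpotent a := by
  rw [nilpotent_iff_mem_prime]
  constructor
  · intro h J hJ
    exact (ker_pointMap ⟨J, hJ⟩ a).mp (congrFun h ⟨J, hJ⟩)
  · intro h
    funext p
    exact (ker_pointMap p a).mpr (h p.asIdeal p.isPrime)

theorem t_injective (A : Type u) [CommRing A] [_root_.IsReduced A] :
    Function.Injective (η.t A) :=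
  (injective_iff_map_eq_zero _).mpr fun a ha => ((t_apply_eq_zero_iff a).mp ha).eq_zero

theorem Nmap_mem_M {A B : Type u} [CommRing A] [CommRing B] (f : A →+* B) {x : η.N A}
    (hx : x ∈ η.M A) : η.Nmap f x ∈ η.M B := by
  intro R _ _ _ hR g
  rw [Nmap_Nmap]
  exact hx R hR (g.comp f)

end Groth.L05.EtaPt
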