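import Mathlib.AlgebraicGeometry.Morphisms.Flat
import Mathlib.AlgebraicGeometry.Morphisms.FinitePresentation
import Mathlib.AlgebraicGeometry.Morphisms.FiniteType
import Mathlib.AlgebraicGeometry.Morphisms.UniversallyOpen
import Mathlib.RingTheory.Ideal.GoingDown
import Mathlib.RingTheory.LocalRing.ResidueField.Fiber
import Mathlib.RingTheory.Flat.Localization
import Mathlib.RingTheory.Ideal.MinimalPrime.Noetherian
import Mathlib.RingTheory.Spectrum.Prime.Topology
import Mathlib.Topology.Irreducible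

/-!
# Irreducible components and affine images along flat maps of finite presentation
-/

universe u

open AlgebraicGeometry CategoryTheory Topology

namespace Groth.L05.EtaPt

/-- Finitely many irreducible components is local for finite open covers. -/
theorem finite_irreducibleComponents_of_cover {V : Type*} [TopologicalSpace V] {ι : Type*} [Finite ι]
    (W : ι → Type*) [∀ i, TopologicalSpace (W i)] (j : ∀ i, W i → V)
    (hj : ∀ i, IsOpenEmbedding (j i)) (hcov : ∀ x, ∃ i, x ∈ Set.range (j i))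
    (hfin : ∀ i, (irreducibleComponents (W i)).Finite) : (irreducibleComponents V).Finite := by
  have h1 : ∀ Z : irreducibleComponents V, ∃ i, ((Z : Set V) ∩ Set.range (j i)).Nonempty := fun Z => by
    obtain ⟨x, hx⟩ := Z.2.1.1
    obtain ⟨i, hi⟩ := hcov x
    exact ⟨i, x, hx, hi⟩
  choose i hi using h1
  haveI : ∀ i, Finite (irreducibleComponents (W i)) := fun i => (hfin i).to_subtype
  let Φ : irreducibleComponents V → (Σ i, irreducibleComponents (W i)) := fun Z =>
    ⟨i Z, j (i Z) ⁻¹' Z, preimage_mem_irreducibleComponents Z.2 (hj _) (hi Z)⟩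
  have hinv : ∀ Z, closure (j (Φ Z).1 '' ((Φ Z).2 : Set (W (Φ Z).1))) = (Z : Set V) := fun Z =>
    closure_image_preimage_of_isPreirreducible _ (hj _).isOpenMap _
      (by obtain ⟨x, hx, w, rfl⟩ := hi Z; exact ⟨w, hx⟩) Z.2.1.2
      (isClosed_of_mem_irreducibleComponents _ Z.2)
  have hinj : Function.Injective Φ := fun Z Z' h => Subtype.ext (by rw [← hinv Z, ← hinv Z', h])
  haveI := Finite.of_injective Φ hinj
  exact Set.toFinite _

theorem minimalPrimes_finite_of_irreducibleComponents {R : Type*} [CommRing R]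
    (h : (irreducibleComponents (PrimeSpectrum R)).Finite) : (minimalPrimes R).Finite := by
  haveI : Finite (irreducibleComponents (PrimeSpectrum R))ᵒᵈ := h.to_subtype
  exact Set.finite_coe_iff.mp
    (Finite.of_equiv _ (minimalPrimes.equivIrreducibleComponents R).toEquiv.symm)

theorem irreducibleComponents_finite_of_minimalPrimes {R : Type*} [CommRing R]
    (h : (minimalPrimes R).Finite) : (irreducibleComponents (PrimeSpectrum R)).Finite := by
  rw [← PrimeSpectrum.zeroLocus_minimalPrimes]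
  exact h.image _

theorem minimalPrimes_finite_of_flat (R S : Type u) [CommRing R] [CommRing S] [Algebra R S]
    [Module.Flat R S] [Algebra.FiniteType R S] (h : (minimalPrimes R).Finite) :
    (minimalPrimes S).Finite := by
  refine Set.Finite.subset (h.biUnion (t := fun p => {q | q ∈ minimalPrimes S ∧ q.under R = p})
    fun p hp => ?_) (fun q hq => ?_)
  · haveI : p.IsPrime := hp.1.1
    haveI : IsNoetherianRing (p.Fiber S) :=
      Algebra.FiniteType.isNoetherianRing p.ResidueField (p.Fiber S)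
    have hfib := minimalPrimes.finite_of_isNoetherianRing (R := p.Fiber S)
    haveI := hfib.to_subtype
    let e := PrimeSpectrum.primesOverOrderIsoFiber R S p
    let Φ : {q | q ∈ minimalPrimes S ∧ q.under R = p} → minimalPrimes (p.Fiber S) := fun q =>
      ⟨(e ⟨q.1, q.2.1.1.1, ⟨q.2.2.symm⟩⟩).asIdeal, by
        haveI := q.2.1.1.1
        refine ⟨⟨(e ⟨q.1, q.2.1.1.1, ⟨q.2.2.symm⟩⟩).2, bot_le⟩, fun J hJ hle => ?_⟩
        obtain ⟨P, hP⟩ := e.surjective ⟨J, hJ.1⟩
        have h1 : P ≤ ⟨q.1, q.2.1.1.1, ⟨q.2.2.symm⟩⟩ := e.le_iff_le.mp (by rw [hP]; exact hle)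
        have h2 : q.1 ≤ P.1 := q.2.1.2 ⟨P.2.1, bot_le⟩ h1
        have h3 : P = ⟨q.1, q.2.1.1.1, ⟨q.2.2.symm⟩⟩ := Subtype.ext (le_antisymm h1 h2)
        rw [h3] at hP
        rw [hP]⟩
    refine Set.finite_coe_iff.mp (Finite.of_injective Φ fun q q' hqq => ?_)
    have h1 := e.injective (PrimeSpectrum.ext (congrArg Subtype.val hqq))
    exact Subtype.ext (congrArg Subtype.val h1 :)
  · haveI : q.IsPrime := hq.1.1
    obtain ⟨p, hp, hpq⟩ := Ideal.exists_minimalPrimes_le (I := (⊥ : Ideal R)) (J := q.under R) bot_le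
    haveI : p.IsPrime := hp.1.1
    obtain ⟨P, hPQ, hP, hover⟩ := Ideal.exists_ideal_le_liesOver_of_le (p := p) (q := q.under R) q hpq
    have h1 : q = P := le_antisymm (hq.2 ⟨hP, bot_le⟩ hPQ) hPQ
    refine Set.mem_biUnion hp ⟨hq, ?_⟩
    rw [h1]; exact hover.over.symm

variable {X Y : Scheme.{u}} (f : Y ⟶ X)

theorem finite_irreducibleComponents_of_flat_lfp [Flat f] [LocallyOfFinitePresentation f]
    (hX : ∀ U : X.Opens, IsCompact (U : Set X) → (irreducibleComponents (U : Type u)).Finite)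
    (V : Y.Opens) (hV : IsCompact (V : Set Y)) : (irreducibleComponents (V : Type u)).Finite := by
  have hloc : ∀ y : V, ∃ W : Y.Opens, IsAffineOpen W ∧ (y : Y) ∈ W ∧ W ≤ V ∧
      (minimalPrimes Γ(Y, W)).Finite := by
    intro y
    obtain ⟨_, ⟨U, hU, rfl⟩, hyU, -⟩ :=
      X.isBasis_affineOpens.exists_subset_of_mem_open (Set.mem_univ (f.base y)) isOpen_univ
    obtain ⟨_, ⟨W, hW, rfl⟩, hyW, hWs⟩ := Y.isBasis_affineOpens.exists_subset_of_mem_open
      (a := (y : Y)) (u := ((V ⊓ f ⁻¹ᵁ U : Y.Opens) : Set Y)) ⟨y.2, hyU⟩ (V ⊓ f ⁻¹ᵁ U).2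
    refine ⟨W, hW, hyW, fun z hz => (hWs hz).1, ?_⟩
    have hUR : (minimalPrimes Γ(X, U)).Finite := by
      refine minimalPrimes_finite_of_irreducibleComponents ?_
      refine finite_irreducibleComponents_of_cover (ι := Unit) (fun _ => (U : Type u))
        (fun _ z => (AlgebraicGeometry.Scheme.homeoOfIso hU.isoSpec) z)
        (fun _ => Homeomorph.isOpenEmbedding _) (fun z => ⟨(), Homeomorph.surjective _ z⟩)
        fun _ => hX U hU.isCompact
    have e : W ≤ f ⁻¹ᵁ U := fun z hz => (hWs hz).2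
    have h1 : (f.appLE U W e).hom.Flat := HasRingHomProperty.appLE @Flat f ‹_› ⟨U, hU⟩ ⟨W, hW⟩ e
    have h2 : (f.appLE U W e).hom.FiniteType :=
      HasRingHomProperty.appLE @LocallyOfFiniteType f inferInstance ⟨U, hU⟩ ⟨W, hW⟩ e
    letI := (f.appLE U W e).hom.toAlgebra
    haveI : Module.Flat Γ(X, U) Γ(Y, W) := h1
    haveI : Algebra.FiniteType Γ(X, U) Γ(Y, W) := h2
    exact minimalPrimes_finite_of_flat Γ(X, U) Γ(Y, W) hUR
  choose W hW hmem hle hfin using hloc
  obtain ⟨t, ht⟩ := hV.elim_finite_subcover (fun y : V => (W y : Set Y)) (fun y => (W y).2)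
    (fun y hy => Set.mem_iUnion.mpr ⟨⟨y, hy⟩, hmem ⟨y, hy⟩⟩)
  refine finite_irreducibleComponents_of_cover (ι := t) (fun i => (W i.1 : Type u))
    (fun i => Set.inclusion (hle i.1)) (fun i => IsOpenEmbedding.inclusion (hle i.1)
      ((W i.1).2.preimage continuous_subtype_val)) (fun x => ?_) fun i => ?_
  · obtain ⟨i, hi, hx⟩ := Set.mem_iUnion₂.mp (ht x.2)
    exact ⟨⟨i, hi⟩, ⟨x.1, hx⟩, rfl⟩
  · exact finite_irreducibleComponents_of_cover (ι := Unit) (fun _ => Spec Γ(Y, W i.1))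
      (fun _ z => (AlgebraicGeometry.Scheme.homeoOfIso (hW i.1).isoSpec).symm z)
      (fun _ => Homeomorph.isOpenEmbedding _) (fun z => ⟨(), Homeomorph.surjective _ z⟩)
      fun _ => irreducibleComponents_finite_of_minimalPrimes (hfin i.1)

theorem exists_affine_image_eq [Flat f] [LocallyOfFinitePresentation f]
    (hsurj : Function.Surjective f.base) (U : X.affineOpens) (x : X) (hx : x ∈ (U : X.Opens)) :
    ∃ V : X.affineOpens, x ∈ (V : X.Opens) ∧ (V : X.Opens) ≤ (U : X.Opens) ∧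
      ∃ W : Y.affineOpens, f.base '' ((W : Y.Opens) : Set Y) = ((V : X.Opens) : Set X) := by
  obtain ⟨y, hy⟩ := hsurj x
  obtain ⟨_, ⟨W, hW, rfl⟩, hyW, hWs⟩ := Y.isBasis_affineOpens.exists_subset_of_mem_open
    (a := y) (u := ((f ⁻¹ᵁ (U : X.Opens) : Y.Opens) : Set Y))
    (show f.base y ∈ (U : X.Opens) from hy ▸ hx) (f ⁻¹ᵁ (U : X.Opens)).2
  let O : X.Opens := ⟨f.base '' (W : Set Y), f.isOpenMap _ W.2⟩
  obtain ⟨g, hgO, hxg⟩ := U.2.exists_basicOpen_le (V := O) ⟨x, y, hyW, hy⟩ hx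
  refine ⟨⟨X.basicOpen g, U.2.basicOpen g⟩, hxg, X.basicOpen_le g, ?_⟩
  refine ⟨⟨Y.basicOpen (f.appLE U W hWs g), hW.basicOpen _⟩, ?_⟩
  show f.base '' (Y.basicOpen (f.appLE U W hWs g) : Set Y) = (X.basicOpen g : Set X)
  rw [Scheme.basicOpen_appLE]
  apply le_antisymm
  · rintro _ ⟨z, hz, rfl⟩; exact hz.2
  · intro z hz
    obtain ⟨w, hw, rfl⟩ := hgO hz
    exact ⟨w, ⟨hw, hz⟩, rfl⟩

end Groth.L05.EtaPt
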