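import Groth.Agent.L05.EtaPt.Rel
import Mathlib.RingTheory.Localization.Away.Basic
import Mathlib.RingTheory.Localization.Integral
import Mathlib.RingTheory.Ideal.Quotient.Operations
import Mathlib.Tactic.LinearCombination

/-!
# Products and localisations
-/

universe u

namespace Groth.L05.EtaPt

open _root_.EtaPt IsLocalRing Polynomial

variable {η : FieldEndo.{u}}

section Away

variable {A : Type u} [CommRing A] (f : A)

/-- The unique extension to `A_f` of a field point off `V(f)`. -/
noncomputable def awayLiftHom {L : Type u} [CommRing L] (φ : A →+* L) (h : IsUnit (φ f)) :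
    Localization.Away f →+* L :=
  IsLocalization.Away.lift f h

theorem awayLiftHom_comp {L : Type u} [CommRing L] (φ : A →+* L) (h : IsUnit (φ f)) :
    (awayLiftHom f φ h).comp (algebraMap A (Localization.Away f)) = φ :=
  IsLocalization.Away.lift_comp f h

open Classical in
/-- Extension by zero from `D(f)`. -/
noncomputable def extendZero (y : η.N (Localization.Away f)) : η.N A := fun p =>
  if hp : pointMap η p f = 0 then 0
  else ev (bijective_eta_obj η p.asIdeal.ResidueField)
    (awayLiftHom f (pointMap η p) (IsUnit.mk0 _ hp)) y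

theorem ev_extendZero {L : Type u} [Field L] (hL : Function.Bijective (η.eta L)) (φ : A →+* L)
    (hφ : φ f ≠ 0) (y : η.N (Localization.Away f)) :
    ev hL φ (extendZero f y) = ev hL (awayLiftHom f φ (IsUnit.mk0 _ hφ)) y := by
  obtain ⟨h, hh, he⟩ := exists_point_hom hL φ
  have hne : pointMap η (pt φ) f ≠ 0 := fun h0 => hφ (by rw [← hh, h0, map_zero])
  rw [he, extendZero, dif_neg hne, ← ev_comp_hom (bijective_eta_obj η _) hL]
  refine congrArg (fun ψ => ev hL ψ y) ?_
  refine IsLocalization.ringHom_ext (Submonoid.powers f) ?_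
  rw [RingHom.comp_assoc, awayLiftHom_comp, awayLiftHom_comp]
  exact RingHom.ext hh

theorem Nmap_extendZero (y : η.N (Localization.Away f)) :
    η.Nmap (algebraMap A (Localization.Away f)) (extendZero f y) = y := by
  refine ext_ev fun Q => ?_
  have hne : ((pointMap η Q).comp (algebraMap A (Localization.Away f))) f ≠ 0 := fun h =>
    not_isUnit_zero (M₀ := η.obj Q.asIdeal.ResidueField) (h ▸ (IsLocalization.Away.algebraMap_isUnit
      (S := Localization.Away f) f).map (pointMap η Q))
  rw [ev_Nmap, ev_extendZero f _ _ hne]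
  exact congrArg (fun ψ => ev (bijective_eta_obj η Q.asIdeal.ResidueField) ψ y)
    (IsLocalization.ringHom_ext (Submonoid.powers f) (awayLiftHom_comp f _ _))

theorem t_mul_eq_zero_of_Nmap_eq_zero {x : η.N A}
    (h : η.Nmap (algebraMap A (Localization.Away f)) x = 0) : η.t A f * x = 0 := by
  refine ext_ev fun p => ?_
  rw [map_mul, ev_t, map_zero]
  by_cases hp : pointMap η p f = 0
  · rw [hp, zero_mul]
  · rw [← awayLiftHom_comp f (pointMap η p) (IsUnit.mk0 _ hp), ← ev_Nmap, h, map_zero, mul_zero]

theorem exists_monic_mem_M (hA : (minimalPrimes A).Finite) {y : η.N (Localization.Away f)}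
    (hy : y ∈ η.M (Localization.Away f)) : ∃ (P : (Localization.Away f)[X]), P.Monic ∧
      P.eval₂ (η.t (Localization.Away f)) y = 0 := by
  haveI := hA.fintype
  have hint : ∀ p : minimalPrimes A, ∃ P : (Localization.Away f)[X], P.Monic ∧
      ∀ Q : PrimeSpectrum (Localization.Away f), Q.asIdeal.comap (algebraMap A _) = p.1 →
        P.eval₂ (pointMap η Q) (y Q) = 0 := by
    intro p
    by_cases hex : ∃ Q : PrimeSpectrum (Localization.Away f), Q.asIdeal.comap (algebraMap A _) = p.1
    · obtain ⟨Q, hQ⟩ := hex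
      have := isIntegralElem_ev (bijective_eta_obj η _) hy (pointMap η Q)
      rw [ev_pointMap] at this
      obtain ⟨P, hP, hP0⟩ := this
      refine ⟨P, hP, fun Q' hQ' => ?_⟩
      have : Q' = Q := PrimeSpectrum.ext (by
        rw [← IsLocalization.map_comap (Submonoid.powers f) _ Q'.asIdeal,
          ← IsLocalization.map_comap (Submonoid.powers f) _ Q.asIdeal]
        exact congrArg _ (hQ'.trans hQ.symm))
      subst this
      exact hP0
    · exact ⟨1, monic_one, fun Q hQ => absurd ⟨Q, hQ⟩ hex⟩
  choose P hPm hP using hint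
  refine ⟨∏ p, P p, monic_prod_of_monic _ _ fun p _ => hPm p, ?_⟩
  have hmem : (∏ p, P p).eval₂ (η.t (Localization.Away f)) y ∈ η.M (Localization.Away f) :=
    by
      have h : (η.M (Localization.Away f)).subtype ((∏ p, P p).eval₂ (η.q _) ⟨y, hy⟩) =
          (∏ p, P p).eval₂ (η.t (Localization.Away f)) y := by rw [hom_eval₂]; rfl
      rw [← h]
      exact Subtype.mem _
  refine ext_of_minimalPrimes hmem (Subring.zero_mem _) fun Q hQ => ?_
  obtain ⟨p₀, hp₀, hle⟩ := Ideal.exists_minimalPrimes_le
    (bot_le : (⊥ : Ideal A) ≤ Q.asIdeal.comap (algebraMap A _))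
  have hcomap : Q.asIdeal.comap (algebraMap A _) = p₀ := by
    haveI := hp₀.1.1
    have hdis : Disjoint (Submonoid.powers f : Set A) p₀ :=
      ((IsLocalization.isPrime_iff_isPrime_disjoint (Submonoid.powers f) _ Q.asIdeal).mp Q.isPrime).2.mono_right hle
    have hP' := IsLocalization.isPrime_of_isPrime_disjoint (Submonoid.powers f) (Localization.Away f) p₀ hp₀.1.1 hdis
    have hc := IsLocalization.comap_map_of_isPrime_disjoint (Submonoid.powers f) (Localization.Away f) hp₀.1.1 hdis
    have hle' : p₀.map (algebraMap A _) ≤ Q.asIdeal := Ideal.map_le_iff_le_comap.mpr hle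
    rw [← hc]
    congr 1
    exact le_antisymm (hQ.2 ⟨hP', bot_le⟩ hle') hle'
  show Pi.evalRingHom (fun Q : PrimeSpectrum (Localization.Away f) => η.obj Q.asIdeal.ResidueField) Q
    ((∏ p, P p).eval₂ (η.t _) y) = 0
  rw [hom_eval₂, eval₂_finsetProd]
  exact Finset.prod_eq_zero (Finset.mem_univ ⟨p₀, hp₀⟩) (hP _ Q hcomap)

theorem exists_M_lift (hA : (minimalPrimes A).Finite) {y : η.N (Localization.Away f)}
    (hy : y ∈ η.M (Localization.Away f)) : ∃ x ∈ η.M A, ∃ n : ℕ,
      y * η.t (Localization.Away f) (algebraMap A (Localization.Away f) f) ^ n =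
        η.Nmap (algebraMap A (Localization.Away f)) x := by
  obtain ⟨P, hP, hPy⟩ := exists_monic_mem_M f hA hy
  letI : Algebra (Localization.Away f) (η.N (Localization.Away f)) := (η.t _).toAlgebra
  letI : Algebra A (η.N (Localization.Away f)) :=
    ((η.t _).comp (algebraMap A (Localization.Away f))).toAlgebra
  haveI : IsScalarTower A (Localization.Away f) (η.N (Localization.Away f)) :=
    IsScalarTower.of_algebraMap_eq' rfl
  obtain ⟨⟨_, m, rfl⟩, hm⟩ := IsIntegral.exists_multiple_integral_of_isLocalization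
    (Submonoid.powers f) y (⟨P, hP, hPy⟩ : IsIntegral (Localization.Away f) y)
  obtain ⟨S, hS, hS0⟩ := hm
  rw [Submonoid.smul_def, Algebra.smul_def] at hS0
  refine ⟨η.t A f ^ (m + 1) * extendZero f y, fun R _ _ _ hR g => ?_, m + 1, ?_⟩
  swap
  · rw [map_mul, map_pow, η.Nmap_t_apply, Nmap_extendZero, mul_comm]
  revert R
  suffices η.t A f ^ (m + 1) * extendZero f y ∈ η.M A from this
  refine mem_M_of_forall fun R _ _ _ hR g => ?_
  haveI := isIntegrallyClosed_of_valuationRing R
  set φ := (algebraMap R (FractionRing R)).comp g with hφdef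
  by_cases hgf : g f = 0
  · refine ⟨0, ?_, fun L _ hL ψ _ => ?_⟩
    · rw [map_mul, map_pow, ev_t, show φ f = 0 by simp [hφdef, hgf], zero_pow (Nat.succ_ne_zero m),
        zero_mul, map_zero]
    · rw [map_mul, map_pow, ev_t, RingHom.comp_apply, hgf, map_zero, zero_pow (Nat.succ_ne_zero m),
        zero_mul]
  have hφf : φ f ≠ 0 := fun h => hgf (IsFractionRing.injective R (FractionRing R) (by
    rw [map_zero]; exact h))
  set c := ev hR φ (extendZero f y)
  set φ' := awayLiftHom f φ (IsUnit.mk0 _ hφf)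
  have hint : IsIntegral R (φ f ^ m * c) := by
    refine ⟨S.map g, hS.map g, ?_⟩
    have h1 := congrArg (ev hR φ') hS0
    rw [map_zero, hom_eval₂, map_mul] at h1
    have e1 : (ev hR φ').comp (algebraMap A (η.N (Localization.Away f))) = φ := RingHom.ext fun a => by
      show ev hR φ' (η.t _ (algebraMap A _ a)) = φ a
      rw [ev_t]
      exact DFunLike.congr_fun (awayLiftHom_comp f φ (IsUnit.mk0 _ hφf)) a
    rw [show c = ev hR φ' y from ev_extendZero f hR φ hφf y, eval₂_map, ← hφdef]
    rw [← RingHom.comp_apply (ev hR φ'), e1, map_pow] at h1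
    exact h1
  obtain ⟨r₀, hr₀⟩ := IsIntegrallyClosed.isIntegral_iff.mp hint
  refine ⟨g f * r₀, ?_, fun L _ hL ψ hψ => ?_⟩
  · rw [map_mul, map_pow, ev_t, map_mul, hr₀, pow_succ', mul_assoc]
    rfl
  rw [map_mul, map_pow, ev_t, map_mul, RingHom.comp_apply]
  by_cases hmem : g f ∈ maximalIdeal R
  · rw [(hψ _).mpr hmem, zero_pow (Nat.succ_ne_zero m), zero_mul, zero_mul]
  · have hu : IsUnit (g f) := not_not.mp hmem
    obtain ⟨r, hr⟩ := exists_value hy hR (awayLiftHom f g hu)
    have hext : ∀ {L : Type u} [Field L] (hL : Function.Bijective (η.eta L)) (ψ : R →+* L),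
        ev hL (ψ.comp g) (extendZero f y) = ψ r := by
      intro L _ hL ψ
      rw [ev_extendZero f hL (ψ.comp g) (hu.map ψ).ne_zero, ← hr L hL ψ]
      refine congrArg (fun σ => ev hL σ y) ?_
      refine IsLocalization.ringHom_ext (Submonoid.powers f) ?_
      rw [awayLiftHom_comp, RingHom.comp_assoc, awayLiftHom_comp]
    have hrr : r₀ = g f ^ m * r := IsFractionRing.injective R (FractionRing R) (by
      rw [hr₀, map_mul, map_pow]
      exact congrArg _ (hext hR (algebraMap R (FractionRing R))))
    rw [hext hL ψ, hrr, map_mul, map_pow, pow_succ', mul_assoc]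

theorem rel_away_le {B : Type u} [CommRing B] (φ : A →+* B) :
    (η.rel φ).map (algebraMap B (Localization.Away (φ f))) ≤ η.rel (Localization.awayMap φ f) := by
  rintro _ ⟨b, hb, rfl⟩
  refine map_mem_rel_of_square (algebraMap A (Localization.Away f)) _ ?_ hb
  exact IsLocalization.map_comp _

theorem exists_rel_lift {B : Type u} [CommRing B] (φ : A →+* B) (hA : (minimalPrimes A).Finite)
    {y : Localization.Away (φ f)} (hy : y ∈ η.rel (Localization.awayMap φ f)) :
    ∃ x ∈ η.rel φ, ∃ n : ℕ, y * algebraMap B (Localization.Away (φ f)) (φ f) ^ n =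
      algebraMap B (Localization.Away (φ f)) x := by
  obtain ⟨z, hz, hzy⟩ := exists_of_mem_rel hy
  obtain ⟨x, hx, n, hxn⟩ := exists_M_lift f hA hz
  obtain ⟨⟨b, ⟨_, m, rfl⟩⟩, hb⟩ := IsLocalization.surj (Submonoid.powers (φ f)) y
  set aB := algebraMap B (Localization.Away (φ f))
  set aA := algebraMap A (Localization.Away f)
  have hsq : (Localization.awayMap φ f).comp aA = aB.comp φ := IsLocalization.map_comp _
  have hd : η.Nmap aB (η.t B (b * φ f ^ n) - η.Nmap φ (η.t A f ^ m * x)) = 0 := by
    rw [map_sub, η.Nmap_t_apply, Nmap_Nmap, ← hsq, ← Nmap_Nmap, map_mul (η.Nmap aA), ← hxn,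
      map_pow (η.Nmap aA), η.Nmap_t_apply]
    simp only [map_mul, map_pow, η.Nmap_t_apply, hzy]
    rw [← RingHom.comp_apply (Localization.awayMap φ f), hsq, RingHom.comp_apply,
      sub_eq_zero, ← hb, map_mul]
    simp only [map_pow, map_mul, aB]
    ring
  have h0 := t_mul_eq_zero_of_Nmap_eq_zero (φ f) hd
  refine ⟨φ f * (b * φ f ^ n), mem_rel (x := η.t A f * (η.t A f ^ m * x))
    ((η.M A).mul_mem (η.t_mem_M A f) ((η.M A).mul_mem ((η.M A).pow_mem (η.t_mem_M A f) m) hx)) ?_,
    m + n + 1, ?_⟩
  · rw [map_mul (η.Nmap φ), η.Nmap_t_apply, map_mul (η.t B) (φ f)]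
    linear_combination -h0
  · rw [map_mul, map_mul, map_pow, ← hb, map_pow]
    ring

end Away

end Groth.L05.EtaPt
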