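import Groth.Agent.L05.EtaPt.Ev
import Mathlib.RingTheory.Valuation.ValuationSubring
import Mathlib.RingTheory.Localization.LocalizationLocalization
import Mathlib.RingTheory.Localization.AtPrime.Basic

/-!
# Membership in `M η A` through valuation rings
-/

universe u

namespace Groth.L05.EtaPt

open _root_.EtaPt IsLocalRing

variable {η : FieldEndo.{u}}

theorem inV_of_isFractionRing {R L : Type u} [CommRing R] [IsDomain R] [Field L] [Algebra R L]
    [IsFractionRing R L] (hL : Function.Bijective (η.eta L)) : η.InV R :=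
  bijective_eta_of_equiv η (FractionRing.algEquiv R L).symm.toRingEquiv hL

theorem bijective_eta_of_inV {R L : Type u} [CommRing R] [IsDomain R] [Field L] [Algebra R L]
    [IsFractionRing R L] (hR : η.InV R) : Function.Bijective (η.eta L) :=
  bijective_eta_of_equiv η (FractionRing.algEquiv R L).toRingEquiv hR

theorem inV_valuationSubring {L : Type u} [Field L] (hL : Function.Bijective (η.eta L))
    (V : ValuationSubring L) : η.InV V :=
  inV_of_isFractionRing hL

/-- An element of `M η A` has a value in every valuation ring, compatible with all specialisations. -/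
theorem exists_value {A : Type u} [CommRing A] {x : η.N A} (hx : x ∈ η.M A)
    {R : Type u} [CommRing R] [IsDomain R] [ValuationRing R] (hR : η.InV R) (g : A →+* R) :
    ∃ r : R, ∀ (L : Type u) [Field L] (hL : Function.Bijective (η.eta L)) (ψ : R →+* L),
      ev hL (ψ.comp g) x = ψ r := by
  obtain ⟨r, hr⟩ := hx R hR g
  refine ⟨r, fun L _ hL ψ => ?_⟩
  rw [← ev_Nmap, ← hr, ev_t]

theorem exists_value_subring {A L : Type u} [CommRing A] [Field L]
    (hL : Function.Bijective (η.eta L)) {x : η.N A} (hx : x ∈ η.M A) (V : ValuationSubring L)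
    (g : A →+* V) : ∃ r : V, ev hL (V.subtype.comp g) x = r ∧
      ∀ (L' : Type u) [Field L'] (hL' : Function.Bijective (η.eta L')) (ψ : V →+* L'),
        ev hL' (ψ.comp g) x = ψ r := by
  obtain ⟨r, hr⟩ := exists_value hx (inV_valuationSubring hL V) g
  exact ⟨r, hr L hL V.subtype, fun L' _ hL' ψ => hr L' hL' ψ⟩

/-- It is enough to test the generic and the closed point of every valuation ring. -/
theorem mem_M_of_forall {A : Type u} [CommRing A] {x : η.N A}
    (h : ∀ (R : Type u) [CommRing R] [IsDomain R] [ValuationRing R] (hR : η.InV R) (g : A →+* R),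
      ∃ r : R, ev hR ((algebraMap R (FractionRing R)).comp g) x = algebraMap R (FractionRing R) r ∧
        ∀ (L : Type u) [Field L] (hL : Function.Bijective (η.eta L)) (ψ : R →+* L),
          (∀ a, ψ a = 0 ↔ a ∈ maximalIdeal R) → ev hL (ψ.comp g) x = ψ r) :
    x ∈ η.M A := by
  intro R _ _ _ hR g
  obtain ⟨r, hr, -⟩ := h R hR g
  refine ⟨r, ext_ev fun P => ?_⟩
  rw [ev_t, ev_Nmap]
  haveI hdom : IsDomain (Localization.AtPrime P.asIdeal) :=
    IsLocalization.isDomain_localization P.asIdeal.primeCompl_le_nonZeroDivisors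
  haveI : ValuationRing (Localization.AtPrime P.asIdeal) := by
    rw [ValuationRing.iff_dvd_total]
    refine ⟨fun a b => ?_⟩
    obtain ⟨a₁, s, rfl⟩ := IsLocalization.exists_mk'_eq P.asIdeal.primeCompl a
    obtain ⟨b₁, t, rfl⟩ := IsLocalization.exists_mk'_eq P.asIdeal.primeCompl b
    rcases ((ValuationRing.iff_dvd_total.mp (inferInstance : ValuationRing R)).total a₁ b₁) with
      ⟨c, hc⟩ | ⟨c, hc⟩
    · left
      refine ⟨IsLocalization.mk' _ (c * s) t, ?_⟩
      rw [← IsLocalization.mk'_mul, IsLocalization.mk'_eq_iff_eq]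
      simp only [Submonoid.coe_mul, hc]
      congr 1
      ring
    · right
      refine ⟨IsLocalization.mk' _ (c * t) s, ?_⟩
      rw [← IsLocalization.mk'_mul, IsLocalization.mk'_eq_iff_eq]
      simp only [Submonoid.coe_mul, hc]
      congr 1
      ring
  letI : Algebra (Localization.AtPrime P.asIdeal) (FractionRing R) :=
    (IsLocalization.lift (M := P.asIdeal.primeCompl) (g := algebraMap R (FractionRing R))
      fun y => IsUnit.mk0 _ ((map_ne_zero_iff _ (IsFractionRing.injective R _)).mpr
        (nonZeroDivisors.ne_zero (P.asIdeal.primeCompl_le_nonZeroDivisors y.2)))).toAlgebra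
  haveI : IsScalarTower R (Localization.AtPrime P.asIdeal) (FractionRing R) :=
    IsScalarTower.of_algebraMap_eq fun a => (IsLocalization.lift_eq _ a).symm
  haveI : IsFractionRing (Localization.AtPrime P.asIdeal) (FractionRing R) :=
    IsFractionRing.isFractionRing_of_isDomain_of_isLocalization P.asIdeal.primeCompl _ _
  set Q := Localization.AtPrime P.asIdeal
  have hQ : η.InV Q := inV_of_isFractionRing hR
  obtain ⟨r', hr', hclosed⟩ := h Q hQ ((algebraMap R Q).comp g)
  have heq : r' = algebraMap R Q r := by
    let σ := (FractionRing.algEquiv Q (FractionRing R)).toRingEquiv.toRingHom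
    have h1 := congrArg σ hr'
    have hσ : σ.comp (algebraMap Q (FractionRing Q)) = algebraMap Q (FractionRing R) :=
      (FractionRing.algEquiv Q (FractionRing R)).toAlgHom.comp_algebraMap
    rw [← ev_comp_hom hQ hR, ← RingHom.comp_apply σ, ← RingHom.comp_assoc, hσ] at h1
    rw [← RingHom.comp_assoc, ← IsScalarTower.algebraMap_eq, hr,
      IsScalarTower.algebraMap_apply R Q (FractionRing R)] at h1
    exact (IsFractionRing.injective Q (FractionRing R) h1).symm
  let ψ : Q →+* η.obj P.asIdeal.ResidueField :=
    IsLocalization.lift (M := P.asIdeal.primeCompl) (g := pointMap η P) fun y =>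
      IsUnit.mk0 _ fun h0 => y.2 ((ker_pointMap P _).mp h0)
  have hψ : ψ.comp (algebraMap R Q) = pointMap η P := IsLocalization.lift_comp _
  have hker : ∀ a, ψ a = 0 ↔ a ∈ maximalIdeal Q := by
    intro a
    obtain ⟨a₁, s, rfl⟩ := IsLocalization.exists_mk'_eq P.asIdeal.primeCompl a
    rw [IsLocalization.AtPrime.mk'_mem_maximal_iff Q P.asIdeal, IsLocalization.lift_mk', Units.mul_left_eq_zero,
      ker_pointMap]
  have h2 := hclosed _ (bijective_eta_obj η _) ψ hker
  rw [← RingHom.comp_assoc, hψ, heq, ← RingHom.comp_apply ψ, hψ] at h2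
  exact h2.symm

end Groth.L05.EtaPt
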