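import Groth.Agent.L05.EtaPt.Loc
import Mathlib.FieldTheory.IsAlgClosed.AlgebraicClosure
import Mathlib.RingTheory.Flat.FaithfullyFlat.Algebra
import Mathlib.RingTheory.Ideal.Quotient.Operations
import Groth.Prelude.Def_EGA4b

/-!
# Products, integral descent, faithfully flat descent
-/

universe u

namespace Groth.L05.EtaPt

open _root_.EtaPt IsLocalRing Polynomial TensorProduct

variable {η : FieldEndo.{u}}

section Prod

variable {A B : Type u} [CommRing A] [CommRing B]

theorem factor_fst {L : Type u} [CommRing L] (φ : A × B →+* L) (h : φ (0, 1) = 0) :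
    ∃ ψ : A →+* L, φ = ψ.comp (RingHom.fst A B) := by
  have h1 : φ (1, 0) = 1 := by
    have := congrArg φ (show ((1, 0) : A × B) + (0, 1) = 1 by simp)
    rwa [map_add, h, add_zero, map_one] at this
  have key : ∀ p : A × B, φ p = φ (p.1, 0) := fun p => by
    have : φ p = φ p * φ (1, 0) := by rw [h1, mul_one]
    rw [this, ← map_mul]
    congr 1
    ext <;> simp
  refine ⟨{ toFun := fun a => φ (a, 0)
            map_one' := h1
            map_mul' := fun a b => by rw [← map_mul]; congr 1; ext <;> simp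
            map_zero' := by rw [show ((0 : A), (0 : B)) = 0 from rfl, map_zero]
            map_add' := fun a b => by rw [← map_add]; congr 1; ext <;> simp },
    RingHom.ext fun p => key p⟩

theorem factor_snd {L : Type u} [CommRing L] (φ : A × B →+* L) (h : φ (1, 0) = 0) :
    ∃ ψ : B →+* L, φ = ψ.comp (RingHom.snd A B) := by
  obtain ⟨ψ, hψ⟩ := factor_fst (φ.comp (RingEquiv.prodComm (R := B) (S := A)).toRingHom) h
  refine ⟨ψ, RingHom.ext fun p => ?_⟩
  exact DFunLike.congr_fun hψ (p.2, p.1)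

theorem prod_cases {L : Type u} [CommRing L] [IsDomain L] (φ : A × B →+* L) :
    φ (0, 1) = 0 ∨ φ (1, 0) = 0 :=
  mul_eq_zero.mp (by
    rw [← map_mul, show ((0, 1) : A × B) * (1, 0) = 0 by ext <;> simp, map_zero])

open Classical in
/-- The element of `N(A × B)` with the given components. -/
noncomputable def joinProd (a : η.N A) (b : η.N B) : η.N (A × B) := fun P =>
  if h : pointMap η P (0, 1) = 0 then ev (bijective_eta_obj η _) (factor_fst (pointMap η P) h).choose a
  else ev (bijective_eta_obj η _)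
    (factor_snd (pointMap η P) ((prod_cases (pointMap η P)).resolve_left h)).choose b

theorem ev_joinProd_fst {L : Type u} [Field L] (hL : Function.Bijective (η.eta L)) (ψ : A →+* L)
    (a : η.N A) (b : η.N B) :
    ev hL (ψ.comp (RingHom.fst A B)) (joinProd a b) = ev hL ψ a := by
  set P := pt (ψ.comp (RingHom.fst A B)) with hP
  obtain ⟨h, hh, he⟩ := exists_point_hom hL (ψ.comp (RingHom.fst A B))
  have h0 : pointMap η P (0, 1) = 0 := h.injective (by rw [hh, map_zero]; exact map_zero ψ)
  rw [he, joinProd, dif_pos h0, ← ev_comp_hom (bijective_eta_obj η _) hL]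
  refine congrArg (fun σ => ev hL σ a) (RingHom.ext fun z => ?_)
  have := DFunLike.congr_fun (factor_fst (pointMap η P) h0).choose_spec (z, 0)
  show h ((factor_fst (pointMap η P) h0).choose z) = ψ z
  rw [show (factor_fst (pointMap η P) h0).choose z = pointMap η P (z, 0) from this.symm, hh]
  rfl

theorem ev_joinProd_snd {L : Type u} [Field L] (hL : Function.Bijective (η.eta L)) (ψ : B →+* L)
    (a : η.N A) (b : η.N B) :
    ev hL (ψ.comp (RingHom.snd A B)) (joinProd a b) = ev hL ψ b := by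
  set P := pt (ψ.comp (RingHom.snd A B)) with hP
  obtain ⟨h, hh, he⟩ := exists_point_hom hL (ψ.comp (RingHom.snd A B))
  have h0 : pointMap η P (0, 1) ≠ 0 := fun h0 => one_ne_zero (α := L) (by
    have := congrArg h h0
    rwa [hh, map_zero, show (ψ.comp (RingHom.snd A B)) (0, 1) = ψ 1 from rfl, map_one] at this)
  rw [he, joinProd, dif_neg h0, ← ev_comp_hom (bijective_eta_obj η _) hL]
  refine congrArg (fun σ => ev hL σ b) (RingHom.ext fun z => ?_)
  have := DFunLike.congr_fun
    (factor_snd (pointMap η P) ((prod_cases (pointMap η P)).resolve_left h0)).choose_spec (0, z)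
  show h ((factor_snd (pointMap η P) ((prod_cases (pointMap η P)).resolve_left h0)).choose z) = ψ z
  rw [show (factor_snd (pointMap η P) ((prod_cases (pointMap η P)).resolve_left h0)).choose z =
    pointMap η P (0, z) from this.symm, hh]
  rfl

theorem bijOn_prod : Set.BijOn
    (fun x : η.N (A × B) => (η.Nmap (RingHom.fst A B) x, η.Nmap (RingHom.snd A B) x))
    (η.M (A × B)) ((η.M A : Set (η.N A)) ×ˢ (η.M B : Set (η.N B))) := by
  refine ⟨fun x hx => ⟨Nmap_mem_M _ hx, Nmap_mem_M _ hx⟩, fun x _ y _ h => ?_, ?_⟩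
  · refine ext_ev fun P => ?_
    rcases prod_cases (pointMap η P) with h0 | h0
    · obtain ⟨ψ, hψ⟩ := factor_fst _ h0
      rw [hψ, ← ev_Nmap, ← ev_Nmap]
      exact congrArg _ (Prod.ext_iff.mp h).1
    · obtain ⟨ψ, hψ⟩ := factor_snd _ h0
      rw [hψ, ← ev_Nmap, ← ev_Nmap]
      exact congrArg _ (Prod.ext_iff.mp h).2
  · rintro ⟨a, b⟩ ⟨ha, hb⟩
    refine ⟨joinProd a b, fun R _ _ _ hR g => ?_, Prod.ext ?_ ?_⟩
    · rcases prod_cases g with h0 | h0
      · obtain ⟨ψ, rfl⟩ := factor_fst _ h0
        obtain ⟨r, hr⟩ := ha R hR ψ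
        refine ⟨r, hr.trans (ext_ev fun Q => ?_)⟩
        rw [ev_Nmap, ev_Nmap, ← RingHom.comp_assoc, ev_joinProd_fst]
      · obtain ⟨ψ, rfl⟩ := factor_snd _ h0
        obtain ⟨r, hr⟩ := hb R hR ψ
        refine ⟨r, hr.trans (ext_ev fun Q => ?_)⟩
        rw [ev_Nmap, ev_Nmap, ← RingHom.comp_assoc, ev_joinProd_snd]
    · exact ext_ev fun Q => by rw [ev_Nmap, ev_joinProd_fst]
    · exact ext_ev fun Q => by rw [ev_Nmap, ev_joinProd_snd]

end Prod

section Integral

variable {A B : Type u} [CommRing A] [CommRing B] {f : A →+* B}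

theorem mem_M_of_Nmap_mem (hf : f.IsIntegral) (hs : Function.Surjective (PrimeSpectrum.comap f))
    {x : η.N A} (hx : η.Nmap f x ∈ η.M B) : x ∈ η.M A := by
  refine mem_M_of_forall fun R _ _ _ hR g => ?_
  set K := FractionRing R
  set φ := (algebraMap R K).comp g
  obtain ⟨Q, hQ⟩ := hs (pt φ)
  let a : A →+* AlgebraicClosure K := (algebraMap K (AlgebraicClosure K)).comp φ
  let ρ : A →+* (pt φ).asIdeal.ResidueField := algebraMap A _
  letI : Algebra (pt φ).asIdeal.ResidueField (AlgebraicClosure K) :=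
    (Ideal.ResidueField.lift (pt φ).asIdeal a
      (fun z hz => by rw [RingHom.mem_ker, RingHom.comp_apply, show φ z = 0 from hz, map_zero])
      (fun z hz => isUnit_iff_ne_zero.mpr fun h0 => hz ((map_eq_zero (algebraMap K (AlgebraicClosure K))).mp h0))).toAlgebra
  have hQ' : (pt φ).asIdeal = Q.asIdeal.comap f := (congrArg PrimeSpectrum.asIdeal hQ).symm
  letI : Algebra (pt φ).asIdeal.ResidueField Q.asIdeal.ResidueField :=
    (Ideal.ResidueField.map _ _ f hQ').toAlgebra
  haveI : Algebra.IsAlgebraic (pt φ).asIdeal.ResidueField Q.asIdeal.ResidueField := by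
    refine ⟨fun z => ?_⟩
    haveI := IsFractionRing.div_surjective (B ⧸ Q.asIdeal) z
    obtain ⟨c, d, -, rfl⟩ := this
    obtain ⟨c, rfl⟩ := Ideal.Quotient.mk_surjective c
    obtain ⟨d, rfl⟩ := Ideal.Quotient.mk_surjective d
    have hint : ∀ b : B, IsIntegral (pt φ).asIdeal.ResidueField (algebraMap B Q.asIdeal.ResidueField b) := by
      intro b
      obtain ⟨P, hP, hPb⟩ := hf b
      refine ⟨P.map ρ, hP.map ρ, ?_⟩
      rw [eval₂_map, show (algebraMap (pt φ).asIdeal.ResidueField Q.asIdeal.ResidueField).comp ρ =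
        (algebraMap B _).comp f from RingHom.ext fun z => Ideal.ResidueField.map_algebraMap _ _ f hQ' z,
        ← hom_eval₂, hPb, map_zero]
    simp only [Ideal.algebraMap_quotient_residueField_mk, div_eq_mul_inv]
    exact ((hint c).mul (hint d).inv).isAlgebraic
  let emb : Q.asIdeal.ResidueField →ₐ[(pt φ).asIdeal.ResidueField] AlgebraicClosure K :=
    IsAlgClosed.lift
  set L := η.obj (AlgebraicClosure K)
  have hL : Function.Bijective (η.eta L) := bijective_eta_obj η _
  let ι : K →+* L := (η.eta (AlgebraicClosure K)).comp (algebraMap K (AlgebraicClosure K))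
  let ψ : B →+* L := (η.eta (AlgebraicClosure K)).comp (emb.toRingHom.comp (algebraMap B _))
  have hψf : ψ.comp f = ι.comp φ := RingHom.ext fun z => by
    show η.eta _ (emb (algebraMap B _ (f z))) = η.eta _ (a z)
    rw [← Ideal.ResidueField.map_algebraMap (pt φ).asIdeal Q.asIdeal f hQ']
    congr 1
    exact (emb.commutes (ρ z)).trans (Ideal.ResidueField.lift_algebraMap _ _ _ _ z)
  obtain ⟨V, hV, hloc⟩ := IsLocalRing.exists_factor_valuationRing (ι.comp (algebraMap R K))
  let gV : R →+* V := (ι.comp (algebraMap R K)).codRestrict V.toSubring hV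
  have hψV : ∀ b, ψ b ∈ V := by
    intro b
    obtain ⟨P, hP, hPb⟩ := hf b
    obtain ⟨r, hr⟩ := IsIntegrallyClosed.isIntegral_iff.mp
      (⟨P.map (gV.comp g), hP.map _, by
        rw [eval₂_map, show (algebraMap V L).comp (gV.comp g) = ψ.comp f from hψf.symm, ← hom_eval₂,
          hPb, map_zero]⟩ : IsIntegral V (ψ b))
    rw [← hr]
    exact r.2
  let gB : B →+* V := ψ.codRestrict V.toSubring hψV
  have hgB : gB.comp f = gV.comp g := RingHom.ext fun z => Subtype.ext (DFunLike.congr_fun hψf z)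
  obtain ⟨r', hr', hclosed⟩ := exists_value_subring hL hx V gB
  rw [show V.subtype.comp gB = ψ from rfl, ev_Nmap, hψf, ev_comp_hom hR hL] at hr'
  obtain ⟨r, hr⟩ : ∃ r : R, algebraMap R K r = ev hR φ x := by
    rcases ValuationRing.isInteger_or_isInteger R (ev hR φ x) with ⟨r, hr⟩ | ⟨r, hr⟩
    · exact ⟨r, hr⟩
    · by_cases h0 : ev hR φ x = 0
      · exact ⟨0, by rw [map_zero, h0]⟩
      have hru : IsUnit (gV r) := IsUnit.of_mul_eq_one r' (Subtype.ext (by
        show ι (algebraMap R K r) * (r' : L) = 1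
        rw [hr, ← hr', map_inv₀, inv_mul_cancel₀ ((map_ne_zero ι).mpr h0)]))
      have hu : IsUnit r := hloc.map_nonunit r hru
      exact ⟨(hu.unit⁻¹ : Rˣ), by rw [map_units_inv, IsUnit.unit_spec, hr, inv_inv]⟩
  refine ⟨r, hr.symm, fun L' _ hL' ρ' hρ' => ?_⟩
  have hrr : gV r = r' := Subtype.ext (by
    show ι (algebraMap R K r) = (r' : L)
    rw [hr, hr'])
  haveI : IsLocalHom ρ' := ⟨fun z hz => by
    by_contra hne
    exact not_isUnit_zero ((hρ' z).mpr hne ▸ hz)⟩
  let σ₁ : ResidueField R →+* L' := Ideal.Quotient.lift (maximalIdeal R) ρ' fun z hz => (hρ' z).mpr hz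
  haveI : IsLocalHom gV := hloc
  let σ₂ : ResidueField R →+* η.obj (ResidueField V) :=
    (η.eta _).comp (ResidueField.map gV)
  have hVpt := hclosed _ (bijective_eta_obj η _) (closedPoint η V)
  rw [ev_Nmap, RingHom.comp_assoc, hgB, ← hrr] at hVpt
  have hκV : Function.Bijective (η.eta (η.obj (ResidueField V))) := bijective_eta_obj η (ResidueField V)
  have hc := bijective_eta_obj η (ResidueField R)
  have e2 : (closedPoint η V).comp (gV.comp g) = (liftObj hκV σ₂).comp
      ((closedPoint η R).comp g) := RingHom.ext fun z => by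
    show η.eta _ (residue V (gV (g z))) = liftObj hκV σ₂ (η.eta _ (residue R (g z)))
    rw [liftObj_eta]
    rfl
  rw [e2, ev_comp_hom hc] at hVpt
  have hkey : ev hc ((closedPoint η R).comp g) x = closedPoint η R r := by
    apply (liftObj hκV σ₂).injective
    rw [hVpt]
    show η.eta _ (residue V (gV r)) = liftObj hκV σ₂ (η.eta _ (residue R r))
    rw [liftObj_eta]
    rfl
  have e1 : ρ'.comp g = (liftObj hL' σ₁).comp ((closedPoint η R).comp g) := RingHom.ext fun z => by
    show ρ' (g z) = liftObj hL' σ₁ (η.eta _ (residue R (g z)))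
    rw [liftObj_eta]
    rfl
  rw [e1, ev_comp_hom hc, hkey]
  show liftObj hL' σ₁ (η.eta _ (residue R r)) = ρ' r
  rw [liftObj_eta]
  rfl

theorem rel_integralClosure (A B : Type u) [CommRing A] [CommRing B] [Algebra A B]
    (hA : (minimalPrimes A).Finite)
    (hs : Function.Surjective (PrimeSpectrum.comap (algebraMap A B))) :
    (η.rel (algebraMap A (integralClosure A B))).map (integralClosure A B).val.toRingHom =
      η.rel (algebraMap A B) := by
  set C := integralClosure A B
  have hv : C.val.toRingHom.comp (algebraMap A C) = algebraMap A B := C.val.comp_algebraMap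
  refine le_antisymm ?_ fun b hb => ?_
  · rintro _ ⟨c, hc, rfl⟩
    exact map_mem_rel_of_square (RingHom.id A) _ (by rw [hv, RingHom.comp_id]) hc
  · have hbC : b ∈ C := by
      obtain ⟨P, hP, hP0⟩ := isIntegral_qRel hA hs ⟨b, hb⟩
      refine ⟨P, hP, ?_⟩
      have := congrArg (η.rel (algebraMap A B)).subtype hP0
      rwa [hom_eval₂, map_zero] at this
    refine ⟨⟨b, hbC⟩, ?_, rfl⟩
    obtain ⟨x, hx, hxb⟩ := exists_of_mem_rel hb
    refine mem_rel hx (ext_of_minimalPrimes (Nmap_mem_M _ hx) (η.t_mem_M C _) fun P hP => ?_)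
    obtain ⟨Q, hQp, hQ⟩ := Ideal.exists_comap_eq_of_mem_minimalPrimes_of_injective
      (f := C.val.toRingHom) Subtype.val_injective P.asIdeal hP
    obtain rfl : P = PrimeSpectrum.comap C.val.toRingHom ⟨Q, hQp⟩ :=
      PrimeSpectrum.ext hQ.symm
    apply (η.map (Ideal.ResidueField.map _ (⟨Q, hQp⟩ : PrimeSpectrum B).asIdeal
      C.val.toRingHom rfl)).injective
    have h := congrFun (show η.Nmap C.val.toRingHom (η.Nmap (algebraMap A C) x) =
      η.Nmap C.val.toRingHom (η.t C ⟨b, hbC⟩) by rw [Nmap_Nmap, hv, hxb, η.Nmap_t_apply]; rfl)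
      ⟨Q, hQp⟩
    exact h

end Integral

section Descent

theorem bijective_qRel_of_faithfullyFlat (A A' B : Type u) [CommRing A] [CommRing A'] [CommRing B]
    [Algebra A A'] [Algebra A B] [Module.FaithfullyFlat A A']
    (h : Function.Bijective (η.qRel (Algebra.TensorProduct.includeLeftRingHom : A' →+* A' ⊗[A] B))) :
    Function.Bijective (η.qRel (algebraMap A B)) := by
  rw [bijective_qRel_iff] at *
  set R := LinearMap.range (Algebra.linearMap A B)
  refine ⟨fun a a' haa => FaithfulSMul.algebraMap_injective A A' (h.1 ?_), fun b hb => ?_⟩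
  · show (algebraMap A A' a) ⊗ₜ[A] (1 : B) = (algebraMap A A' a') ⊗ₜ[A] (1 : B)
    rw [Algebra.algebraMap_eq_smul_one, Algebra.algebraMap_eq_smul_one, TensorProduct.smul_tmul,
      TensorProduct.smul_tmul, ← Algebra.algebraMap_eq_smul_one, ← Algebra.algebraMap_eq_smul_one, haa]
  · have hsq : (Algebra.TensorProduct.includeLeftRingHom : A' →+* A' ⊗[A] B).comp (algebraMap A A') =
        (Algebra.TensorProduct.includeRight : B →ₐ[A] A' ⊗[A] B).toRingHom.comp (algebraMap A B) :=
      RingHom.ext fun a => by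
        show (algebraMap A A' a) ⊗ₜ[A] (1 : B) = (1 : A') ⊗ₜ[A] algebraMap A B a
        rw [Algebra.algebraMap_eq_smul_one, TensorProduct.smul_tmul,
          ← Algebra.algebraMap_eq_smul_one]
    have hmem : ((1 : A') ⊗ₜ[A] b) ∈
        η.rel (Algebra.TensorProduct.includeLeftRingHom : A' →+* A' ⊗[A] B) :=
      map_mem_rel_of_square (f := algebraMap A B)
        (f' := (Algebra.TensorProduct.includeLeftRingHom : A' →+* A' ⊗[A] B))
        (algebraMap A A') (Algebra.TensorProduct.includeRight : B →ₐ[A] A' ⊗[A] B).toRingHom hsq hb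
    obtain ⟨a', ha'⟩ := h.2 _ hmem
    have h1 := congrArg (R.mkQ.lTensor A') ha'
    simp only [Algebra.TensorProduct.includeLeftRingHom_apply, AlgHom.toRingHom_eq_coe,
      RingHom.coe_coe, Algebra.TensorProduct.includeRight_apply, LinearMap.lTensor_tmul] at h1
    rw [show R.mkQ (1 : B) = 0 from (Submodule.Quotient.mk_eq_zero R).mpr ⟨1, map_one (algebraMap A B)⟩,
      TensorProduct.tmul_zero] at h1
    have h2 := (Module.FaithfullyFlat.one_tmul_eq_zero_iff (R := A) (A := A') _ _).mp h1.symm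
    obtain ⟨a, ha⟩ := (Submodule.Quotient.mk_eq_zero R).mp h2
    exact ⟨a, ha⟩

theorem bijective_qRel_pullback {A A' B B' : Type u} [CommRing A] [CommRing A'] [CommRing B]
    [CommRing B'] (j : A →+* B) (f : A →+* A') (g : B →+* B') (j' : A' →+* B')
    (hcomm : j'.comp f = g.comp j)
    (hcart : ∀ (a' : A') (b : B), j' a' = g b → ∃! a : A, f a = a' ∧ j a = b)
    (h : Function.Bijective (η.qRel j')) : Function.Bijective (η.qRel j) := by
  rw [bijective_qRel_iff] at *
  refine ⟨(injective_iff_map_eq_zero j).mpr fun a ha => ?_, fun b hb => ?_⟩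
  · have hfa : f a = 0 := h.1 (by
      rw [map_zero, ← RingHom.comp_apply, hcomm, RingHom.comp_apply, ha, map_zero])
    exact (hcart 0 0 (by simp)).unique ⟨hfa, ha⟩ ⟨map_zero f, map_zero j⟩
  · obtain ⟨a', ha'⟩ := h.2 _ (map_mem_rel_of_square f g hcomm hb)
    obtain ⟨a, ⟨-, ha⟩, -⟩ := hcart a' b ha'
    exact ⟨a, ha⟩

theorem bijective_qRel_awayMap {A B : Type u} [CommRing A] [CommRing B]
    (hA : (minimalPrimes A).Finite) (φ : A →+* B) (h : Function.Bijective (η.qRel φ)) (f : A) :
    Function.Bijective (η.qRel (Localization.awayMap φ f)) := by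
  rw [bijective_qRel_iff] at *
  refine ⟨(injective_iff_map_eq_zero _).mpr fun z hz => ?_, fun y hy => ?_⟩
  · obtain ⟨a, ⟨_, n, rfl⟩, rfl⟩ := IsLocalization.exists_mk'_eq (Submonoid.powers f) z
    rw [Localization.awayMap, IsLocalization.Away.map, IsLocalization.map_mk',
      IsLocalization.mk'_eq_zero_iff] at hz
    obtain ⟨⟨_, m, rfl⟩, hm⟩ := hz
    rw [IsLocalization.mk'_eq_zero_iff]
    exact ⟨⟨_, m, rfl⟩, h.1 (by rw [map_zero, map_mul, map_pow]; exact hm)⟩
  · obtain ⟨x, hx, n, hxn⟩ := exists_rel_lift f φ hA hy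
    obtain ⟨a, rfl⟩ := h.2 x hx
    refine ⟨IsLocalization.mk' _ a (⟨f ^ n, n, rfl⟩ : Submonoid.powers f), ?_⟩
    rw [Localization.awayMap, IsLocalization.Away.map, IsLocalization.map_mk',
      IsLocalization.mk'_eq_iff_eq_mul, ← hxn]
    simp

theorem bijective_qRel_of_span {A B : Type u} [CommRing A] [CommRing B]
    (φ : A →+* B) (s : Finset A) (hspan : Ideal.span (s : Set A) = ⊤)
    (h : ∀ f ∈ s, Function.Bijective (η.qRel (Localization.awayMap φ f))) :
    Function.Bijective (η.qRel φ) := by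
  simp only [bijective_qRel_iff] at *
  have htop : ∀ (I : Ideal A), (∀ f ∈ s, ∃ n : ℕ, f ^ n ∈ I) → I = ⊤ := by
    intro I hI
    refine Ideal.radical_eq_top.mp (top_le_iff.mp (hspan.ge.trans (Ideal.span_le.mpr fun f hf => ?_)))
    obtain ⟨n, hn⟩ := hI f hf
    exact ⟨n, hn⟩
  refine ⟨(injective_iff_map_eq_zero φ).mpr fun a ha => ?_, fun b hb => ?_⟩
  · let I : Ideal A := LinearMap.ker (LinearMap.toSpanSingleton A A a)
    have : I = ⊤ := htop I fun f hf => by
      have h0 : algebraMap A (Localization.Away f) a = 0 := (h f hf).1 (by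
        rw [map_zero, Localization.awayMap, IsLocalization.Away.map, IsLocalization.map_eq, ha,
          map_zero])
      obtain ⟨⟨_, n, rfl⟩, hn⟩ := (IsLocalization.map_eq_zero_iff (Submonoid.powers f) _ a).mp h0
      exact ⟨n, by simpa [I] using hn⟩
    have h1 : (1 : A) ∈ I := this ▸ trivial
    simpa [I] using h1
  · let I : Ideal A :=
      { carrier := {c | ∃ a, φ a = φ c * b}
        add_mem' := fun ⟨a, ha⟩ ⟨a', ha'⟩ => ⟨a + a', by rw [map_add, ha, ha', map_add, add_mul]⟩
        zero_mem' := ⟨0, by simp⟩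
        smul_mem' := fun c d ⟨a, ha⟩ => ⟨c * a, by rw [map_mul, ha, smul_eq_mul, map_mul, mul_assoc]⟩ }
    have : I = ⊤ := htop I fun f hf => by
      obtain ⟨z, hz⟩ := (h f hf).2 _ (rel_away_le f φ ⟨b, hb, rfl⟩)
      obtain ⟨a, ⟨_, n, rfl⟩, rfl⟩ := IsLocalization.exists_mk'_eq (Submonoid.powers f) z
      rw [Localization.awayMap, IsLocalization.Away.map, IsLocalization.map_mk',
        IsLocalization.mk'_eq_iff_eq_mul, ← map_mul, IsLocalization.eq_iff_exists (Submonoid.powers (φ f))] at hz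
      obtain ⟨⟨_, m, rfl⟩, hm⟩ := hz
      simp only [map_pow] at hm
      refine ⟨m + n, f ^ m * a, ?_⟩
      rw [map_mul, map_pow, map_pow, hm, pow_add]
      ring
    obtain ⟨a, ha⟩ : (1 : A) ∈ I := this ▸ trivial
    exact ⟨a, by rw [ha, map_one, one_mul]⟩

end Descent

section Mmap

variable {A B : Type u} [CommRing A] [CommRing B] {f : A →+* B} {g : η.M A →+* η.M B}

theorem Mmap_comp_q (hg : ∀ x : η.M A, ((g x : η.M B) : η.N B) = η.Nmap f (x : η.N A)) :
    g.comp (η.q A) = (η.q B).comp f :=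
  RingHom.ext fun a => Subtype.ext ((hg (η.q A a)).trans (η.Nmap_t_apply f a))

theorem isIntegral_iff_and_surjective_iff (hA : (minimalPrimes A).Finite)
    (hB : (minimalPrimes B).Finite)
    (hg : ∀ x : η.M A, ((g x : η.M B) : η.N B) = η.Nmap f (x : η.N A)) :
    (f.IsIntegral ↔ g.IsIntegral) ∧
      (Function.Surjective (PrimeSpectrum.comap f) ↔ Function.Surjective (PrimeSpectrum.comap g)) := by
  have hsq := Mmap_comp_q hg
  refine ⟨⟨fun hf => ?_, fun hgi => ?_⟩, ?_⟩
  · exact RingHom.IsIntegral.tower_top (η.q A) g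
      (hsq ▸ hf.trans f (η.q B) (isIntegral_q η B hB))
  · refine isIntegral_of_nil_ker f (η.q B) (fun b hb => ?_)
      (hsq ▸ (isIntegral_q η A hA).trans (η.q A) g hgi)
    exact (t_apply_eq_zero_iff b).mp (congrArg Subtype.val hb)
  · have hc : PrimeSpectrum.comap f ∘ PrimeSpectrum.comap (η.q B) =
        PrimeSpectrum.comap (η.q A) ∘ PrimeSpectrum.comap g := by
      funext P
      simp only [Function.comp_apply, ← PrimeSpectrum.comap_comp_apply, hsq]
    rw [← Function.Surjective.of_comp_iff (PrimeSpectrum.comap f) (bijective_comap_q (η := η) hB).2, hc,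
      Function.Surjective.of_comp_iff' (bijective_comap_q (η := η) hA)]

theorem bijective_comap_and_resFactor (hA : (minimalPrimes A).Finite) (hB : (minimalPrimes B).Finite)
    (hg : ∀ x : η.M A, ((g x : η.M B) : η.N B) = η.Nmap f (x : η.N A))
    (hbij : Function.Bijective g) :
    Function.Bijective (PrimeSpectrum.comap f) ∧ ResFactor η f := by
  have hsq := Mmap_comp_q hg
  let e := RingEquiv.ofBijective g hbij
  have he : Function.Bijective (PrimeSpectrum.comap g) := by
    refine ⟨fun P Q h => PrimeSpectrum.ext ?_, fun P => ⟨PrimeSpectrum.comap e.symm.toRingHom P, ?_⟩⟩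
    · exact Ideal.comap_injective_of_surjective g hbij.2 (congrArg PrimeSpectrum.asIdeal h)
    · refine PrimeSpectrum.ext (Ideal.ext fun x => ?_)
      show e.symm (e x) ∈ P.asIdeal ↔ _
      rw [e.symm_apply_apply]
  have hqA := bijective_comap_q (η := η) hA
  have hqB := bijective_comap_q (η := η) hB
  have hc : ∀ P, PrimeSpectrum.comap f (PrimeSpectrum.comap (η.q B) P) =
      PrimeSpectrum.comap (η.q A) (PrimeSpectrum.comap g P) := fun P => by
    simp only [← PrimeSpectrum.comap_comp_apply, hsq]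
  refine ⟨⟨fun Q Q' h => ?_, fun p => ?_⟩, ?_⟩
  · obtain ⟨P, rfl⟩ := hqB.2 Q
    obtain ⟨P', rfl⟩ := hqB.2 Q'
    rw [hc, hc] at h
    rw [he.1 (hqA.1 h)]
  · obtain ⟨P, rfl⟩ := hqA.2 p
    obtain ⟨P', rfl⟩ := he.2 P
    exact ⟨_, hc P'⟩
  · rw [resFactor_iff_forall_exists_hom]
    intro Q
    obtain ⟨P, rfl⟩ := hqB.2 Q
    rw [hc]
    refine ⟨((evM η _).comp e.symm.toRingHom).comp (η.q B), fun b => ?_, ?_⟩
    · show evM η _ (e.symm (η.q B b)) = 0 ↔ η.q B b ∈ P.asIdeal
      have := Ideal.ext_iff.mp (congrArg PrimeSpectrum.asIdeal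
        (eq_primeOver hA (PrimeSpectrum.comap g P))) (e.symm (η.q B b))
      refine Iff.trans this.symm ?_
      show g (e.symm (η.q B b)) ∈ P.asIdeal ↔ _
      rw [show g (e.symm (η.q B b)) = η.q B b from e.apply_symm_apply _]
    · rw [RingHom.comp_assoc, ← hsq, RingHom.comp_assoc, ← RingHom.comp_assoc (η.q A) g,
        show e.symm.toRingHom.comp g = RingHom.id _ from RingHom.ext e.symm_apply_apply,
        RingHom.id_comp, evM_comp_q]

end Mmap

end Groth.L05.EtaPt
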