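import Groth.Agent.L05.EtaPt.Pure
import Mathlib.FieldTheory.Perfect
import Mathlib.RingTheory.LocalRing.ResidueField.Ideal
import Mathlib.Algebra.CharP.Lemmas
import Mathlib.Tactic.FieldSimp

/-!
# `M η` of fields, integrally closed domains and valuation rings
-/

universe u

namespace Groth.L05.EtaPt

open _root_.EtaPt IsLocalRing Polynomial

variable {η : FieldEndo.{u}}

theorem mem_M_of_pow_eq_t {A : Type u} [CommRing A] (q n : ℕ)
    (hq : ∀ (L : Type u) [Field L], (A →+* L) → ExpChar L q) {x : η.N A} {a : A}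
    (h : x ^ q ^ n = η.t A a) : x ∈ η.M A := by
  refine mem_M_of_forall fun R _ _ _ hR g => ?_
  haveI := isIntegrallyClosed_of_valuationRing R
  haveI hqF := hq (FractionRing R) ((algebraMap R (FractionRing R)).comp g)
  set c := ev hR ((algebraMap R (FractionRing R)).comp g) x
  have hc : c ^ q ^ n = algebraMap R (FractionRing R) (g a) := by
    rw [← map_pow, h, ev_t]
    rfl
  have hint : IsIntegral R c := by
    have hm : (X ^ q ^ n - Polynomial.C (g a) : R[X]).Monic :=
      monic_X_pow_sub_C _ (pow_ne_zero _ (expChar_pos (FractionRing R) q).ne')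
    exact ⟨_, hm, by simp [hc]⟩
  obtain ⟨r, hr⟩ := IsIntegrallyClosed.isIntegral_iff.mp hint
  refine ⟨r, hr.symm, fun L _ hL ψ _ => ?_⟩
  haveI := hq L (ψ.comp g)
  refine eq_of_pow_expChar q n ?_
  rw [← map_pow, h, ev_t, RingHom.comp_apply, ← map_pow]
  congr 1
  refine IsFractionRing.injective R (FractionRing R) ?_
  rw [map_pow, hr, hc]

theorem M_eq_top_of_field (η : FieldEndo.{u}) (K : Type u) [Field K] : η.M K = ⊤ := by
  refine eq_top_iff.mpr fun x _ => ?_
  haveI : Nonempty (PrimeSpectrum K) := ⟨⟨⊥, Ideal.isPrime_bot⟩⟩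
  let p : PrimeSpectrum K := ⟨⊥, Ideal.isPrime_bot⟩
  have huniq : ∀ P : PrimeSpectrum K, P = p := fun P =>
    PrimeSpectrum.ext (Ideal.eq_bot_of_prime P.asIdeal)
  obtain ⟨n, z, hz⟩ := η.exists_pow_mem_range_eta p.asIdeal.ResidueField (x p)
  let e := p.asIdeal.algEquivResidueFieldOfField
  have hq : ringExpChar p.asIdeal.ResidueField = ringExpChar K :=
    haveI := expChar_of_injective_ringHom (algebraMap K p.asIdeal.ResidueField).injective (ringExpChar K)
    ringExpChar.eq _ _
  refine mem_M_of_pow_eq_t (ringExpChar K) n (a := e.symm z)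
    (fun L _ φ => expChar_of_injective_ringHom φ.injective _) (funext fun P => ?_)
  rw [huniq P, Pi.pow_apply, ← hq, ← hz]
  show η.eta _ z = η.eta _ (algebraMap K _ (e.symm z))
  rw [← Ideal.algEquivResidueFieldOfField_apply, e.apply_symm_apply]

section Domain

variable {A : Type u} [CommRing A] [IsDomain A]

/-- The generic point. -/
def genPt (A : Type u) [CommRing A] [IsDomain A] : PrimeSpectrum A := ⟨⊥, Ideal.isPrime_bot⟩

theorem eq_genPt {p : PrimeSpectrum A} (hp : p.asIdeal ∈ minimalPrimes A) : p = genPt A :=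
  PrimeSpectrum.ext (le_bot_iff.mp (hp.2 ⟨Ideal.isPrime_bot, le_rfl⟩ bot_le))

theorem ext_genPt {x y : η.N A} (hx : x ∈ η.M A) (hy : y ∈ η.M A)
    (h : x (genPt A) = y (genPt A)) : x = y :=
  ext_of_minimalPrimes hx hy fun p hp => by rw [eq_genPt hp]; exact h

theorem exists_t_eq_of_eta [IsIntegrallyClosed A] {y : η.obj (genPt A).asIdeal.ResidueField}
    (hy : (pointMap η (genPt A)).IsIntegralElem y) {k : (genPt A).asIdeal.ResidueField}
    (hk : η.eta _ k = y) : ∃ a : A, pointMap η (genPt A) a = y := by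
  haveI : IsFractionRing A (genPt A).asIdeal.ResidueField :=
    inferInstanceAs (IsFractionRing A (⊥ : Ideal A).ResidueField)
  obtain ⟨P, hP, hPy⟩ := hy
  have hint : IsIntegral A k := ⟨P, hP, (η.eta _).injective (by
    rw [map_zero, hom_eval₂, hk]; exact hPy)⟩
  obtain ⟨a, ha⟩ := IsIntegrallyClosed.isIntegral_iff.mp hint
  refine ⟨a, ?_⟩
  rw [pointMap, RingHom.comp_apply]
  exact (congrArg (η.eta _) ha).trans hk

theorem bijective_eta_genPt (hA : η.InV A) :
    Function.Bijective (η.eta (genPt A).asIdeal.ResidueField) := by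
  haveI : IsFractionRing A (genPt A).asIdeal.ResidueField :=
    inferInstanceAs (IsFractionRing A (⊥ : Ideal A).ResidueField)
  exact bijective_eta_of_inV (R := A) hA

theorem bijective_q_of_isIntegrallyClosed [IsIntegrallyClosed A] (hA : η.InV A) :
    Function.Bijective (η.q A) := by
  refine ⟨fun a b h => t_injective (η := η) A (congrArg Subtype.val h), fun x => ?_⟩
  obtain ⟨k, hk⟩ := (bijective_eta_genPt hA).2 ((x : η.N A) (genPt A))
  have hint := isIntegralElem_ev (bijective_eta_obj η _) x.2 (pointMap η (genPt A))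
  rw [ev_pointMap] at hint
  obtain ⟨a, ha⟩ := exists_t_eq_of_eta hint hk
  exact ⟨a, Subtype.ext (ext_genPt (η.t_mem_M A a) x.2 ha)⟩

/-- Hypothesis of the computation of `M η R` for a valuation ring. -/
def GoodChar (η : FieldEndo.{u}) (R : Type u) [CommRing R] [IsDomain R] : Prop :=
  η.InV R ∨ ∀ (k : Type u) [Field k], ringChar k = ringChar R →
    Function.Bijective (η.eta k) → PerfectField k

theorem exists_mem_M_of_integral [IsIntegrallyClosed A] (hη : GoodChar η A)
    {y : η.obj (genPt A).asIdeal.ResidueField} (hy : (pointMap η (genPt A)).IsIntegralElem y) :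
    ∃ x ∈ η.M A, x (genPt A) = y := by
  have hbij : Function.Bijective (η.eta (genPt A).asIdeal.ResidueField) →
      ∃ x ∈ η.M A, x (genPt A) = y := fun h => by
    obtain ⟨k, hk⟩ := h.2 y
    obtain ⟨a, ha⟩ := exists_t_eq_of_eta hy hk
    exact ⟨η.t A a, η.t_mem_M A a, ha⟩
  haveI : IsFractionRing A (genPt A).asIdeal.ResidueField :=
    inferInstanceAs (IsFractionRing A (⊥ : Ideal A).ResidueField)
  rcases hη with hη | hperf
  · exact hbij (bijective_eta_genPt hη)
  set κ := (genPt A).asIdeal.ResidueField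
  have hAκ : Function.Injective (algebraMap A κ) := IsFractionRing.injective A κ
  rcases CharP.char_is_prime_or_zero A (ringChar A) with hp | h0
  swap
  · refine hbij (bijective_eta_of_ringExpChar_eq_one η ?_)
    haveI : CharP A 0 := h0 ▸ ringChar.charP A
    haveI : CharP κ 0 := charP_of_injective_ringHom hAκ 0
    haveI := CharP.charP_to_charZero κ
    exact ringExpChar.eq_one κ
  set p := ringChar A
  haveI : Fact p.Prime := ⟨hp⟩
  haveI : CharP A p := ringChar.charP A
  have hq : ∀ (L : Type u) [Field L], (A →+* L) → CharP L p := fun L _ φ =>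
    (CharP.charP_iff_prime_eq_zero hp).mpr (by rw [← map_natCast φ, CharP.cast_eq_zero, map_zero])
  obtain ⟨n, k, hk⟩ := η.exists_pow_mem_range_eta κ y
  haveI : CharP κ p := hq κ (algebraMap A κ)
  haveI : ExpChar κ p := .prime hp
  rw [ringExpChar.eq κ p] at hk
  obtain ⟨P, hP, hPy⟩ := hy
  obtain ⟨a, ha⟩ := exists_t_eq_of_eta (y := y ^ p ^ n) (by
    letI := (pointMap η (genPt A)).toAlgebra
    exact (show IsIntegral A y from ⟨P, hP, hPy⟩).pow (p ^ n)) hk
  have hroot : ∀ P : PrimeSpectrum A, ∃ v, v ^ p ^ n = η.t A a P := fun P => by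
    haveI : CharP (η.obj P.asIdeal.ResidueField) p := hq _ (pointMap η P)
    haveI : ExpChar (η.obj P.asIdeal.ResidueField) p := .prime hp
    haveI := hperf (η.obj P.asIdeal.ResidueField)
      (ringChar.eq (η.obj P.asIdeal.ResidueField) p) (bijective_eta_obj η _)
    haveI := PerfectField.toPerfectRing (K := η.obj P.asIdeal.ResidueField) p
    exact (bijective_iterateFrobenius (η.obj P.asIdeal.ResidueField) p n).2 (η.t A a P)
  choose x hx using hroot
  refine ⟨x, mem_M_of_pow_eq_t p n (fun L _ φ => ?_) (funext hx), ?_⟩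
  · haveI := hq L φ
    exact .prime hp
  · haveI : CharP (η.obj κ) p := hq _ (pointMap η (genPt A))
    haveI : ExpChar (η.obj κ) p := .prime hp
    exact eq_of_pow_expChar p n ((hx _).trans ha)

theorem image_M_eq [IsIntegrallyClosed A] (hη : GoodChar η A) :
    (fun x : η.N A => x (genPt A)) '' (η.M A : Set (η.N A)) =
      {y | (pointMap η (genPt A)).IsIntegralElem y} := by
  ext y
  constructor
  · rintro ⟨x, hx, rfl⟩
    have := isIntegralElem_ev (bijective_eta_obj η _) hx (pointMap η (genPt A))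
    rwa [ev_pointMap] at this
  · intro hy
    obtain ⟨x, hx, hxy⟩ := exists_mem_M_of_integral hη hy
    exact ⟨x, hx, hxy⟩

end Domain

end Groth.L05.EtaPt

namespace Groth.L05.EtaPt

open _root_.EtaPt IsLocalRing Polynomial

variable {η : FieldEndo.{u}} {A : Type u} [CommRing A] [IsDomain A]

theorem isDomain_M : IsDomain (η.M A) := by
  have hinj : Function.Injective (evM η (genPt A)) := fun x y h =>
    Subtype.ext (ext_genPt x.2 y.2 h)
  exact hinj.isDomain (evM η (genPt A))

theorem exists_num_den [IsIntegrallyClosed A] (hη : GoodChar η A)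
    (y : η.obj (genPt A).asIdeal.ResidueField) :
    ∃ a b : η.M A, (b : η.N A) (genPt A) ≠ 0 ∧
      y * (b : η.N A) (genPt A) = (a : η.N A) (genPt A) := by
  haveI : IsFractionRing A (genPt A).asIdeal.ResidueField :=
    inferInstanceAs (IsFractionRing A (⊥ : Ideal A).ResidueField)
  obtain ⟨n, k, hk⟩ := η.exists_pow_mem_range_eta _ y
  obtain ⟨c, d, hd, rfl⟩ := IsFractionRing.div_surjective A k
  set Q := ringExpChar (genPt A).asIdeal.ResidueField ^ n with hQ
  have hQ0 : Q ≠ 0 := pow_ne_zero _ (expChar_pos (genPt A).asIdeal.ResidueField _).ne'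
  have hd0 : algebraMap A (genPt A).asIdeal.ResidueField d ≠ 0 :=
    IsFractionRing.to_map_ne_zero_of_mem_nonZeroDivisors hd
  have hint : (pointMap η (genPt A)).IsIntegralElem (y * pointMap η (genPt A) d) := by
    letI := (pointMap η (genPt A)).toAlgebra
    refine IsIntegral.of_pow (n := Q) (Nat.pos_of_ne_zero hQ0) ?_
    have hk' : algebraMap A (genPt A).asIdeal.ResidueField c / algebraMap A _ d *
        algebraMap A _ d ^ Q = algebraMap A _ (c * d ^ (Q - 1)) := by
      rw [map_mul, map_pow, div_mul_eq_mul_div, div_eq_iff hd0, mul_assoc, ← pow_succ,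
        Nat.sub_add_cancel (Nat.pos_of_ne_zero hQ0)]
    have he : (y * pointMap η (genPt A) d) ^ Q = pointMap η (genPt A) (c * d ^ (Q - 1)) := by
      have h1 := congrArg (η.eta (genPt A).asIdeal.ResidueField) hk'
      rw [map_mul, map_pow, hk, ← mul_pow] at h1
      exact h1
    rw [he]
    exact isIntegral_algebraMap
  obtain ⟨x, hx, hxy⟩ := exists_mem_M_of_integral hη hint
  refine ⟨⟨x, hx⟩, η.q A d, ?_, hxy.symm⟩
  show pointMap η (genPt A) d ≠ 0
  rw [pointMap, RingHom.comp_apply]
  exact fun h => hd0 ((map_eq_zero _).mp h)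

theorem preValuationRing_M [ValuationRing A] (hη : GoodChar η A) : PreValuationRing (η.M A) := by
  haveI := isIntegrallyClosed_of_valuationRing A
  haveI : IsFractionRing A (genPt A).asIdeal.ResidueField :=
    inferInstanceAs (IsFractionRing A (⊥ : Ideal A).ResidueField)
  refine ⟨fun a b => ?_⟩
  by_cases ha : (a : η.N A) (genPt A) = 0
  · exact ⟨0, Or.inr (Subtype.ext (ext_genPt (Subtype.mem _) a.2 (by simp [ha])))⟩
  set y := (b : η.N A) (genPt A) / (a : η.N A) (genPt A) with hy
  obtain ⟨n, k, hk⟩ := η.exists_pow_mem_range_eta _ y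
  set Q := ringExpChar (genPt A).asIdeal.ResidueField ^ n
  have hQ0 : 0 < Q := pow_pos (expChar_pos (genPt A).asIdeal.ResidueField _) _
  letI := (pointMap η (genPt A)).toAlgebra
  rcases ValuationRing.isInteger_or_isInteger A k with ⟨c, hc⟩ | ⟨c, hc⟩
  · have hint : IsIntegral A y := IsIntegral.of_pow hQ0 (by
      rw [← hk, ← hc]; exact isIntegral_algebraMap)
    obtain ⟨x, hx, hxy⟩ := exists_mem_M_of_integral hη hint
    refine ⟨⟨x, hx⟩, Or.inl (Subtype.ext (ext_genPt (Subtype.mem _) b.2 ?_))⟩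
    show (a : η.N A) (genPt A) * x (genPt A) = _
    rw [hxy, hy, mul_div_cancel₀ _ ha]
  · by_cases hb : (b : η.N A) (genPt A) = 0
    · exact ⟨0, Or.inl (Subtype.ext (ext_genPt (Subtype.mem _) b.2 (by simp [hb])))⟩
    have hint : IsIntegral A y⁻¹ := IsIntegral.of_pow hQ0 (by
      rw [inv_pow, ← hk, ← map_inv₀, ← hc]; exact isIntegral_algebraMap)
    obtain ⟨x, hx, hxy⟩ := exists_mem_M_of_integral hη hint
    refine ⟨⟨x, hx⟩, Or.inr (Subtype.ext (ext_genPt (Subtype.mem _) a.2 ?_))⟩
    show (b : η.N A) (genPt A) * x (genPt A) = _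
    rw [hxy, hy, inv_div, mul_div_cancel₀ _ hb]

theorem image_inter_range [IsIntegrallyClosed A] (hη : GoodChar η A) :
    (fun x : η.N A => x (genPt A)) '' (η.M A : Set (η.N A)) ∩
        Set.range (η.eta (genPt A).asIdeal.ResidueField) =
      Set.range (pointMap η (genPt A)) := by
  rw [image_M_eq hη]
  ext y
  constructor
  · rintro ⟨hy, k, hk⟩
    exact exists_t_eq_of_eta hy hk
  · rintro ⟨a, rfl⟩
    exact ⟨RingHom.isIntegralElem_map _, _, rfl⟩

end Groth.L05.EtaPt
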