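import Groth.Agent.L05.EtaPt.Misc
import Groth.Agent.L05.EtaPt.Val
import Groth.Prelude.Def_EGA4b
import Mathlib.RingTheory.Ideal.Quotient.Operations
import Mathlib.RingTheory.LocalProperties.Reduced
import Mathlib.RingTheory.Localization.AtPrime.Basic

/-!
# Normal rings and normalization
-/

universe u

namespace Groth.L05.EtaPt

open _root_.EtaPt IsLocalRing

variable {η : FieldEndo.{u}}

theorem bijective_qRel_integralClosure' (A A' K K' : Type u) [CommRing A] [CommRing A'] [Algebra A A']
    [CommRing K] [CommRing K'] [Algebra A K] [Algebra A' K'] [IsFractionRing A K] [IsFractionRing A' K']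
    [Module.FaithfullyFlat A A']
    (h : Function.Bijective (η.qRel (algebraMap A' (integralClosure A' K')))) :
    Function.Bijective (η.qRel (algebraMap A (integralClosure A K))) := by
  rw [bijective_qRel_iff] at *
  have hreg : ∀ s ∈ nonZeroDivisors A, algebraMap A A' s ∈ nonZeroDivisors A' := fun s hs => by
    have h1 : IsSMulRegular A s := fun a b hab => (mul_cancel_left_mem_nonZeroDivisors hs).mp hab
    have h2 := IsSMulRegular.of_flat (S := A') h1
    rw [mem_nonZeroDivisors_iff_right]
    intro y hy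
    exact h2 (by simpa [Algebra.smul_def, mul_comm] using hy)
  let u : K →+* K' :=
    IsLocalization.map (M := nonZeroDivisors A) (T := nonZeroDivisors A') K'
      (algebraMap A A') hreg
  have hu : u.comp (algebraMap A K) =
      (algebraMap A' K').comp (algebraMap A A') := IsLocalization.map_comp _
  have hint : ∀ c : integralClosure A K, IsIntegral A' (u c) := fun c => by
    obtain ⟨P, hP, hP0⟩ := c.2
    refine ⟨P.map (algebraMap A A'), hP.map _, ?_⟩
    rw [Polynomial.eval₂_map, ← hu, ← Polynomial.hom_eval₂, hP0, map_zero]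
  let β : integralClosure A K →+* integralClosure A' K' :=
    (u.comp (integralClosure A K).val.toRingHom).codRestrict
      (integralClosure A' K').toSubring hint
  refine ⟨fun a b hab => IsFractionRing.injective A K (congrArg Subtype.val hab),
    fun c hc => ?_⟩
  obtain ⟨a', ha'⟩ := h.2 _ (map_mem_rel_of_square
    (f := algebraMap A (integralClosure A K)) (f' := algebraMap A' (integralClosure A' K')) (algebraMap A A') β
    (RingHom.ext fun a => Subtype.ext (DFunLike.congr_fun hu a).symm) hc)
  obtain ⟨⟨a, s⟩, has⟩ := IsLocalization.surj (nonZeroDivisors A) (c : K)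
  have h1 : algebraMap A A' (s : A) * a' = algebraMap A A' a := by
    apply IsFractionRing.injective A' K'
    have h2 := congrArg u has
    rw [map_mul, ← RingHom.comp_apply u, ← RingHom.comp_apply u, hu] at h2
    rw [map_mul, mul_comm, show algebraMap A' K' a' = u c from congrArg Subtype.val ha']
    exact h2
  have h3 : a ∈ Ideal.span {(s : A)} := by
    rw [← Ideal.comap_map_eq_self_of_faithfullyFlat (B := A') (Ideal.span {(s : A)}), Ideal.mem_comap,
      ← h1]
    exact Ideal.mul_mem_right _ _ (Ideal.mem_map_of_mem _ (Ideal.mem_span_singleton_self _))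
  obtain ⟨a₀, rfl⟩ := Ideal.mem_span_singleton'.mp h3
  refine ⟨a₀, Subtype.ext ?_⟩
  exact ((IsLocalization.map_units K s).mul_right_cancel (by rw [has, map_mul]; rfl)).symm

theorem bijective_qRel_integralClosure (A A' : Type u) [CommRing A] [CommRing A'] [Algebra A A']
    [Module.FaithfullyFlat A A']
    (h : Function.Bijective (η.qRel (algebraMap A' (integralClosure A' (FractionRing A'))))) :
    Function.Bijective (η.qRel (algebraMap A (integralClosure A (FractionRing A)))) :=
  bijective_qRel_integralClosure' A A' (FractionRing A) (FractionRing A') h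

section Normal

variable {A : Type u} [CommRing A] (hn : EGA4.IsNormalRing A)

include hn

theorem isReduced_of_isNormalRing : _root_.IsReduced A :=
  isReduced_ofLocalizationMaximal A fun P _ => by
    haveI := (hn P).1
    infer_instance

theorem minimalPrimes_sup_eq_top {p q : Ideal A} (hp : p ∈ minimalPrimes A) (hq : q ∈ minimalPrimes A)
    (hne : p ≠ q) : p ⊔ q = ⊤ := by
  by_contra htop
  obtain ⟨m, hm, hle⟩ := Ideal.exists_le_maximal _ htop
  haveI := (hn m).1
  haveI : (RingHom.ker (algebraMap A (Localization.AtPrime m))).IsPrime := RingHom.ker_isPrime _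
  have hker : ∀ r ∈ minimalPrimes A, r ≤ m → r = RingHom.ker (algebraMap A (Localization.AtPrime m)) := by
    intro r hr hrm
    have hk : RingHom.ker (algebraMap A (Localization.AtPrime m)) ≤ r := fun x hx => by
      obtain ⟨⟨t, ht⟩, hxt⟩ := (IsLocalization.map_eq_zero_iff m.primeCompl _ x).mp hx
      exact (hr.1.1.mem_or_mem (show t * x ∈ r from hxt ▸ r.zero_mem)).resolve_left fun h => ht (hrm h)
    exact le_antisymm (hr.2 ⟨inferInstance, bot_le⟩ hk) hk
  exact hne ((hker p hp (le_sup_left.trans hle)).trans (hker q hq (le_sup_right.trans hle)).symm)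

theorem isIntegral_mem_quotient {p : Ideal A} [p.IsPrime] (hp : p ∈ minimalPrimes A)
    {k : p.ResidueField} (hk : IsIntegral A k) : ∃ a, algebraMap A p.ResidueField a = k := by
  let I : Ideal A :=
    { carrier := {c | ∃ a, algebraMap A p.ResidueField a = algebraMap A _ c * k}
      add_mem' := fun ⟨a, ha⟩ ⟨a', ha'⟩ => ⟨a + a', by rw [map_add, ha, ha', map_add, add_mul]⟩
      zero_mem' := ⟨0, by simp⟩
      smul_mem' := fun c d ⟨a, ha⟩ => ⟨c * a, by rw [map_mul, ha, smul_eq_mul, map_mul, mul_assoc]⟩ }
  suffices I = ⊤ by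
    obtain ⟨a, ha⟩ : (1 : A) ∈ I := this ▸ trivial
    exact ⟨a, by rw [ha, map_one, one_mul]⟩
  by_contra htop
  obtain ⟨m, hm, hle⟩ := Ideal.exists_le_maximal _ htop
  have hpm : p ≤ m := fun x hx => hle ⟨0, by
    rw [map_zero, Ideal.algebraMap_residueField_eq_zero.mpr hx, zero_mul]⟩
  haveI := (hn m).1
  haveI := (hn m).2
  let Q := Localization.AtPrime m
  have hunit : ∀ t : m.primeCompl, IsUnit (algebraMap A p.ResidueField t) := fun t =>
    IsUnit.mk0 _ fun h => t.2 (hpm (Ideal.algebraMap_residueField_eq_zero.mp h))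
  let j : Q →+* p.ResidueField := IsLocalization.lift hunit
  have hj : j.comp (algebraMap A Q) = algebraMap A p.ResidueField := IsLocalization.lift_comp hunit
  have hjinj : Function.Injective j := by
    rw [injective_iff_map_eq_zero]
    intro z hz
    obtain ⟨a, t, rfl⟩ := IsLocalization.exists_mk'_eq m.primeCompl z
    rw [IsLocalization.lift_mk', Units.mul_left_eq_zero, Ideal.algebraMap_residueField_eq_zero] at hz
    haveI : (RingHom.ker (algebraMap A Q)).IsPrime := RingHom.ker_isPrime _
    have hk : RingHom.ker (algebraMap A Q) ≤ p := fun x hx =>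
      Ideal.algebraMap_residueField_eq_zero.mp (by rw [← hj, RingHom.comp_apply, hx, map_zero])
    have := hp.2 ⟨inferInstance, bot_le⟩ hk hz
    rw [RingHom.mem_ker] at this
    rw [IsLocalization.mk'_eq_zero_iff]
    exact (IsLocalization.map_eq_zero_iff m.primeCompl Q a).mp this
  letI : Algebra Q p.ResidueField := j.toAlgebra
  haveI : IsScalarTower A Q p.ResidueField := IsScalarTower.of_algebraMap_eq' hj.symm
  haveI : FaithfulSMul Q p.ResidueField := (faithfulSMul_iff_algebraMap_injective Q p.ResidueField).mpr hjinj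
  haveI : IsFractionRing Q p.ResidueField := by
    refine IsFractionRing.of_field Q p.ResidueField fun z => ?_
    obtain ⟨c, d, -, rfl⟩ := IsFractionRing.div_surjective (A ⧸ p) z
    obtain ⟨c, rfl⟩ := Ideal.Quotient.mk_surjective c
    obtain ⟨d, rfl⟩ := Ideal.Quotient.mk_surjective d
    refine ⟨algebraMap A Q c, algebraMap A Q d, ?_⟩
    simp only [Ideal.algebraMap_quotient_residueField_mk, ← hj]
    rfl
  obtain ⟨z, hz⟩ := IsIntegrallyClosed.isIntegral_iff.mp (hk.tower_top (A := Q))
  obtain ⟨a, t, rfl⟩ := IsLocalization.exists_mk'_eq m.primeCompl z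
  refine t.2 (hle ⟨a, ?_⟩)
  rw [← hz, ← hj, RingHom.comp_apply, RingHom.comp_apply, ← RingHom.algebraMap_toAlgebra j,
    ← map_mul, IsLocalization.mk'_spec'_mk]

theorem bijective_q_of_isNormalRing (hA : (minimalPrimes A).Finite)
    (hη : ∀ p : PrimeSpectrum A, p.asIdeal ∈ minimalPrimes A →
      Function.Bijective (η.eta p.asIdeal.ResidueField)) : Function.Bijective (η.q A) := by
  haveI := isReduced_of_isNormalRing hn
  refine ⟨fun a b h => t_injective (η := η) A (congrArg Subtype.val h), fun x => ?_⟩
  have hloc : ∀ p : minimalPrimes A, ∃ a : A,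
      (x : η.N A) ⟨p.1, Ideal.minimalPrimes_isPrime p.2⟩ =
        η.t A a ⟨p.1, Ideal.minimalPrimes_isPrime p.2⟩ := by
    intro ⟨p, hp⟩
    haveI := Ideal.minimalPrimes_isPrime hp
    obtain ⟨k, hk⟩ := (hη ⟨p, inferInstance⟩ hp).2 ((x : η.N A) ⟨p, inferInstance⟩)
    have hint := isIntegralElem_ev (bijective_eta_obj η _) x.2 (pointMap η ⟨p, inferInstance⟩)
    rw [ev_pointMap] at hint
    obtain ⟨P, hP, hP0⟩ := hint
    obtain ⟨a, ha⟩ := isIntegral_mem_quotient hn hp (k := k) ⟨P, hP, (η.eta _).injective (by
      rw [map_zero, Polynomial.hom_eval₂, hk]; exact hP0)⟩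
    exact ⟨a, hk.symm.trans (congrArg _ ha.symm)⟩
  choose a ha using hloc
  haveI := hA.fintype
  obtain ⟨c, hc⟩ := Ideal.exists_forall_sub_mem_ideal (fun i j hij => by
    show IsCoprime ((i : minimalPrimes A) : Ideal A) j
    rw [Ideal.isCoprime_iff_sup_eq]
    exact minimalPrimes_sup_eq_top hn i.2 j.2 fun h => hij (Subtype.ext h)) a
  refine ⟨c, Subtype.ext (ext_of_minimalPrimes (η.t_mem_M A c) x.2 fun p hp => ?_)⟩
  rw [ha ⟨p.asIdeal, hp⟩, ← sub_eq_zero]
  show η.t A c p - η.t A (a ⟨p.asIdeal, hp⟩) p = 0
  rw [← Pi.sub_apply, ← map_sub]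
  exact (ker_pointMap p _).mpr (hc ⟨p.asIdeal, hp⟩)

end Normal

end Groth.L05.EtaPt
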