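import Groth.Agent.L05.EtaPt.Core
import Mathlib.RingTheory.IntegralClosure.IntegrallyClosed
import Mathlib.RingTheory.Valuation.ValuationRing
import Mathlib.RingTheory.PrincipalIdealDomain
import Mathlib.Algebra.GCDMonoid.IntegrallyClosed

/-!
# Maps inducing bijections on `N η`
-/

universe u

namespace Groth.L05.EtaPt

open _root_.EtaPt IsLocalRing Polynomial

variable {η : FieldEndo.{u}} {A B : Type u} [CommRing A] [CommRing B] {f : A →+* B}

theorem bijective_map_residue (hres : ResFactor η f) (p : PrimeSpectrum A) (Q : PrimeSpectrum B)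
    (hQ : p.asIdeal = Q.asIdeal.comap f) :
    Function.Bijective (η.map (Ideal.ResidueField.map p.asIdeal Q.asIdeal f hQ)) := by
  have hp : p = PrimeSpectrum.comap f Q := PrimeSpectrum.ext hQ
  subst hp
  obtain ⟨φ, hφ⟩ := hres Q
  refine ⟨(η.map _).injective, fun y => ?_⟩
  obtain ⟨z, hz⟩ := (η.bijective_map_eta (PrimeSpectrum.comap f Q).asIdeal.ResidueField).2 (η.map φ y)
  refine ⟨z, (η.map φ).injective ?_⟩
  rw [← hz, ← RingHom.comp_apply (η.map φ), ← η.map_comp, hφ]

theorem bijective_Nmap (hbij : Function.Bijective (PrimeSpectrum.comap f)) (hres : ResFactor η f) :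
    Function.Bijective (η.Nmap f) := by
  refine ⟨fun x y h => funext fun p => ?_, fun y => ?_⟩
  · obtain ⟨Q, rfl⟩ := hbij.2 p
    exact (bijective_map_residue hres _ Q rfl).1 (congrFun h Q)
  · have key : ∀ p : PrimeSpectrum A, ∃ v : η.obj p.asIdeal.ResidueField,
        ∀ (Q : PrimeSpectrum B) (hQ : p.asIdeal = Q.asIdeal.comap f),
          η.map (Ideal.ResidueField.map p.asIdeal Q.asIdeal f hQ) v = y Q := by
      intro p
      obtain ⟨Q, hQ⟩ := hbij.2 p
      have hQ' : p.asIdeal = Q.asIdeal.comap f := (congrArg PrimeSpectrum.asIdeal hQ).symm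
      obtain ⟨v, hv⟩ := (bijective_map_residue hres p Q hQ').2 (y Q)
      refine ⟨v, fun Q₁ hQ₁ => ?_⟩
      obtain rfl : Q₁ = Q := hbij.1 (PrimeSpectrum.ext (hQ₁.symm.trans hQ'))
      exact hv
    choose x hx using key
    exact ⟨x, funext fun Q => hx _ Q rfl⟩

theorem bijective_comap_of_bijective_Nmap (hN : Function.Bijective (η.Nmap f)) :
    Function.Bijective (PrimeSpectrum.comap f) := by
  classical
  refine ⟨fun Q Q' h => ?_, fun p => ?_⟩
  · by_contra hne
    obtain ⟨x, hx⟩ := hN.2 (fun P => if P = Q then 1 else 0)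
    have h1 : ev (bijective_eta_obj η _) (pointMap η Q) (η.Nmap f x) = 1 := by
      rw [ev_pointMap, hx]
      exact if_pos rfl
    have h2 : ev (bijective_eta_obj η _) (pointMap η Q') (η.Nmap f x) = 0 := by
      rw [ev_pointMap, hx]
      exact if_neg (Ne.symm hne)
    have hker : ∀ P : PrimeSpectrum B, ∀ a,
        (pointMap η P).comp f a = 0 ↔ a ∈ (PrimeSpectrum.comap f P).asIdeal :=
      fun P a => ker_pointMap P (f a)
    rw [ev_Nmap, apply_eq_zero_iff_of_ker (bijective_eta_obj η _) _ (hker Q'), ← h] at h2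
    rw [ev_Nmap, (apply_eq_zero_iff_of_ker (bijective_eta_obj η _) _ (hker Q) x).mpr h2] at h1
    exact zero_ne_one h1
  · by_contra hne
    push Not at hne
    let x : η.N A := fun q => if q = p then 1 else 0
    have hx : η.Nmap f x = η.Nmap f 0 := funext fun Q => by
      show η.map _ (x (PrimeSpectrum.comap f Q)) = η.map _ 0
      rw [show x (PrimeSpectrum.comap f Q) = 0 from if_neg (hne Q)]
    have := congrFun (hN.1 hx) p
    simp [x] at this

theorem isIntegrallyClosed_of_valuationRing (R : Type u) [CommRing R] [IsDomain R] [ValuationRing R] :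
    IsIntegrallyClosed R := by
  classical
  letI := IsBezout.toGCDDomain R
  exact GCDMonoid.toIsIntegrallyClosed

/-- A map inducing a bijection on `N η` has a unique factor through every integrally closed domain
whose fraction field is fixed by `η`. -/
theorem existsUnique_factor (hf : f.IsIntegral) (hN : Function.Bijective (η.Nmap f))
    {R : Type u} [CommRing R] [IsDomain R] [IsIntegrallyClosed R] (hR : η.InV R) (g : A →+* R) :
    ∃! g' : B →+* R, g'.comp f = g := by
  let φ := (algebraMap R (FractionRing R)).comp g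
  let e := RingEquiv.ofBijective (η.Nmap f) hN
  let ψ : B →+* FractionRing R := ((ev hR φ).comp e.symm.toRingHom).comp (η.t B)
  have hψf : ψ.comp f = φ := RingHom.ext fun a => by
    show ev hR φ (e.symm (η.t B (f a))) = φ a
    rw [← η.Nmap_t_apply, show η.Nmap f (η.t A a) = e (η.t A a) from rfl, e.symm_apply_apply, ev_t]
  have hint : ∀ b, ψ b ∈ (algebraMap R (FractionRing R)).range := by
    intro b
    obtain ⟨P, hP, hPb⟩ := hf b
    refine IsIntegrallyClosed.isIntegral_iff.mp ⟨P.map g, hP.map g, ?_⟩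
    rw [eval₂_map, show (algebraMap R (FractionRing R)).comp g = ψ.comp f from hψf.symm,
      ← hom_eval₂, hPb, map_zero]
  choose r hr using hint
  let g' : B →+* R :=
    { toFun := r
      map_one' := IsFractionRing.injective R (FractionRing R) (by rw [hr, map_one, map_one])
      map_mul' := fun a b => IsFractionRing.injective R (FractionRing R) (by rw [hr, map_mul, map_mul, hr, hr])
      map_zero' := IsFractionRing.injective R (FractionRing R) (by rw [hr, map_zero, map_zero])
      map_add' := fun a b => IsFractionRing.injective R (FractionRing R) (by rw [hr, map_add, map_add, hr, hr]) }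
  have hg'ψ : (algebraMap R (FractionRing R)).comp g' = ψ := RingHom.ext hr
  refine ⟨g', ?_, fun g₂ hg₂ => ?_⟩
  · refine RingHom.ext fun a => IsFractionRing.injective R (FractionRing R) ?_
    rw [RingHom.comp_apply, ← RingHom.comp_apply (algebraMap R _) g', hg'ψ, ← RingHom.comp_apply ψ, hψf]
    rfl
  · refine RingHom.ext fun b => IsFractionRing.injective R (FractionRing R) ?_
    rw [← RingHom.comp_apply (algebraMap R _) g', hg'ψ]
    show _ = ev hR φ (e.symm (η.t B b))
    rw [show φ = ((algebraMap R (FractionRing R)).comp g₂).comp f by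
        rw [RingHom.comp_assoc, show g₂.comp f = g from hg₂],
      ← ev_Nmap, show η.Nmap f (e.symm (η.t B b)) = η.t B b from e.apply_symm_apply _, ev_t]
    rfl

theorem bijOn_Nmap_M (hf : f.IsIntegral) (hN : Function.Bijective (η.Nmap f)) :
    Set.BijOn (η.Nmap f) (η.M A) (η.M B) := by
  refine ⟨fun x hx => Nmap_mem_M f hx, hN.1.injOn, fun y hy => ?_⟩
  obtain ⟨x, rfl⟩ := hN.2 y
  refine ⟨x, fun R _ _ _ hR g => ?_, rfl⟩
  haveI := isIntegrallyClosed_of_valuationRing R
  obtain ⟨g', hg', -⟩ := existsUnique_factor hf hN hR g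
  subst hg'
  rw [← Nmap_Nmap]
  exact hy R hR g'

variable (η) in
theorem bijective_Nmap_q (A : Type u) [CommRing A] (hA : (minimalPrimes A).Finite) :
    Function.Bijective (η.Nmap (η.q A)) :=
  bijective_Nmap (bijective_comap_q hA) (resFactor_q hA)

theorem Nmap_q_eq_t {A : Type u} [CommRing A] (hA : (minimalPrimes A).Finite) (x : η.M A) :
    η.Nmap (η.q A) (x : η.N A) = η.t (η.M A) x := by
  refine ext_ev fun Q => ?_
  rw [ev_Nmap, ev_t]
  obtain ⟨p, rfl⟩ : ∃ p, Q = primeOver η p := ⟨_, eq_primeOver hA Q⟩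
  obtain ⟨F, hF, hFq⟩ := resFactor_iff_forall_exists_hom (η.q A) |>.mp (resFactor_q hA) (primeOver η p)
  let P := pointMap η (primeOver η p)
  let σ : (primeOver η p).asIdeal.ResidueField →+* η.obj p.asIdeal.ResidueField :=
    Ideal.ResidueField.lift _ (evM η p) le_rfl fun b hb => isUnit_iff_ne_zero.mpr hb
  let τ := liftObj (bijective_eta_obj η p.asIdeal.ResidueField) σ
  have hτ : τ.comp P = evM η p := RingHom.ext fun z => by
    show τ (η.eta _ (algebraMap _ _ z)) = _
    rw [liftObj_eta, Ideal.ResidueField.lift_algebraMap]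
  apply τ.injective
  rw [← ev_comp_hom (bijective_eta_obj η _) (bijective_eta_obj η _), ← RingHom.comp_assoc, hτ,
    evM_comp_q, ev_pointMap, ← RingHom.comp_apply τ, hτ]
  rfl

theorem isReduced_M (A : Type u) [CommRing A] : _root_.IsReduced (η.M A) :=
  isReduced_of_injective (η.M A).subtype Subtype.val_injective

theorem bijective_q_M {A : Type u} [CommRing A] (hA : (minimalPrimes A).Finite) :
    Function.Bijective (η.q (η.M A)) := by
  haveI := isReduced_M (η := η) A
  refine ⟨fun x y h => t_injective (η := η) (η.M A) (congrArg Subtype.val h), fun z => ?_⟩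
  obtain ⟨x, hx, hxz⟩ := (bijOn_Nmap_M (isIntegral_q η A hA) (bijective_Nmap_q η A hA)).surjOn z.2
  exact ⟨⟨x, hx⟩, Subtype.ext ((Nmap_q_eq_t hA ⟨x, hx⟩).symm.trans hxz)⟩

theorem existsUnique_lift_q (hA : (minimalPrimes A).Finite) (hf : f.IsIntegral)
    (hN : Function.Bijective (η.Nmap f)) : ∃! g' : B →+* η.M A, g'.comp f = η.q A := by
  let e := RingEquiv.ofBijective (η.Nmap f) hN
  have hmem : ∀ b, e.symm (η.t B b) ∈ η.M A := fun b => by
    obtain ⟨x, hx, hxb⟩ := (bijOn_Nmap_M hf hN).surjOn (η.t_mem_M B b)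
    rwa [show e.symm (η.t B b) = x from e.injective ((e.apply_symm_apply _).trans hxb.symm)]
  let g' : B →+* η.M A := (e.symm.toRingHom.comp (η.t B)).codRestrict (η.M A) hmem
  refine ⟨g', RingHom.ext fun a => Subtype.ext ?_, fun g₂ hg₂ => ?_⟩
  · show e.symm (η.t B (f a)) = η.t A a
    rw [← η.Nmap_t_apply]
    exact e.symm_apply_apply _
  · haveI := isReduced_M (η := η) A
    refine RingHom.ext fun b => t_injective (η := η) (η.M A) ?_
    rw [← Nmap_q_eq_t hA (g' b), ← η.Nmap_t_apply g₂ b,
      show η.t B b = η.Nmap f (g' b : η.N A) from (e.apply_symm_apply _).symm, Nmap_Nmap, hg₂]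

theorem bijective_of_isReduced (hA : (minimalPrimes A).Finite) {C : Type u} [CommRing C]
    [_root_.IsReduced C] (h : η.M A →+* C) (hh : h.IsIntegral) (hN : Function.Bijective (η.Nmap h)) :
    Function.Bijective h := by
  haveI := isReduced_M (η := η) A
  refine ⟨fun x y hxy => t_injective (η := η) (η.M A) (hN.1 ?_), fun c => ?_⟩
  · rw [η.Nmap_t_apply, η.Nmap_t_apply, hxy]
  · obtain ⟨z, hz, hzc⟩ := (bijOn_Nmap_M hh hN).surjOn (η.t_mem_M C c)
    obtain ⟨x, hx⟩ := (bijective_q_M hA).2 ⟨z, hz⟩
    refine ⟨x, t_injective (η := η) C ?_⟩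
    rw [← η.Nmap_t_apply, ← hzc]
    exact congrArg _ (congrArg Subtype.val hx)

end Groth.L05.EtaPt
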