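import Groth.Agent.L05.EtaPt.Pure

/-!
# The relative construction `rel f`
-/

universe u

namespace Groth.L05.EtaPt

open _root_.EtaPt IsLocalRing Polynomial

variable {η : FieldEndo.{u}} {A B C : Type u} [CommRing A] [CommRing B] [CommRing C] {f : A →+* B}

theorem Nmap_injective_of_surjective (hs : Function.Surjective (PrimeSpectrum.comap f)) :
    Function.Injective (η.Nmap f) := fun x y h => funext fun p => by
  obtain ⟨Q, rfl⟩ := hs p
  exact (η.map _).injective (congrFun h Q)

theorem exists_of_mem_rel {b : B} (hb : b ∈ η.rel f) :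
    ∃ x ∈ η.M A, η.Nmap f x = η.t B b :=
  Subring.mem_map.mp hb

theorem mem_rel {b : B} {x : η.N A} (hx : x ∈ η.M A) (h : η.Nmap f x = η.t B b) : b ∈ η.rel f :=
  Subring.mem_map.mpr ⟨x, hx, h⟩

/-- `rel` is functorial along commutative squares. -/
theorem map_mem_rel_of_square {A' B' : Type u} [CommRing A'] [CommRing B'] {f' : A' →+* B'}
    (α : A →+* A') (β : B →+* B') (h : f'.comp α = β.comp f) {b : B} (hb : b ∈ η.rel f) :
    β b ∈ η.rel f' := by
  obtain ⟨x, hx, hxb⟩ := exists_of_mem_rel hb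
  refine mem_rel (Nmap_mem_M α hx) ?_
  rw [Nmap_Nmap, h, ← Nmap_Nmap, hxb, η.Nmap_t_apply]

/-- The map `rel f → M η A`. -/
noncomputable def relToM (hs : Function.Surjective (PrimeSpectrum.comap f)) : η.rel f →+* η.M A where
  toFun b := ⟨(exists_of_mem_rel b.2).choose, (exists_of_mem_rel b.2).choose_spec.1⟩
  map_one' := Subtype.ext <| Nmap_injective_of_surjective hs <| by
    refine (exists_of_mem_rel (η.rel f).one_mem).choose_spec.2.trans ?_
    simp
  map_zero' := Subtype.ext <| Nmap_injective_of_surjective hs <| by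
    refine (exists_of_mem_rel (η.rel f).zero_mem).choose_spec.2.trans ?_
    simp
  map_mul' a b := Subtype.ext <| Nmap_injective_of_surjective hs <| by
    refine (exists_of_mem_rel ((η.rel f).mul_mem a.2 b.2)).choose_spec.2.trans ?_
    rw [Subring.coe_mul, map_mul, map_mul]
    simp only [(exists_of_mem_rel a.2).choose_spec.2, (exists_of_mem_rel b.2).choose_spec.2]
  map_add' a b := Subtype.ext <| Nmap_injective_of_surjective hs <| by
    refine (exists_of_mem_rel ((η.rel f).add_mem a.2 b.2)).choose_spec.2.trans ?_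
    rw [Subring.coe_add, map_add, map_add]
    simp only [(exists_of_mem_rel a.2).choose_spec.2, (exists_of_mem_rel b.2).choose_spec.2]

theorem Nmap_relToM (hs : Function.Surjective (PrimeSpectrum.comap f)) (b : η.rel f) :
    η.Nmap f (relToM hs b : η.N A) = η.t B (b : B) :=
  (exists_of_mem_rel b.2).choose_spec.2

theorem relToM_comp_qRel (hs : Function.Surjective (PrimeSpectrum.comap f)) :
    (relToM hs).comp (η.qRel f) = η.q A :=
  RingHom.ext fun a => Subtype.ext <| Nmap_injective_of_surjective hs <| by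
    rw [RingHom.comp_apply, Nmap_relToM]
    exact (η.Nmap_t_apply f a).symm

theorem isNilpotent_of_relToM_eq_zero (hs : Function.Surjective (PrimeSpectrum.comap f))
    {b : η.rel f} (hb : relToM hs b = 0) : IsNilpotent b := by
  have : η.t B (b : B) = 0 := by rw [← Nmap_relToM hs, hb]; simp
  obtain ⟨n, hn⟩ := (t_apply_eq_zero_iff _).mp this
  exact ⟨n, Subtype.ext (by simpa using hn)⟩

theorem isIntegral_of_nil_ker {R S T : Type u} [CommRing R] [CommRing S] [CommRing T] (i : R →+* S)
    (j : S →+* T) (hj : ∀ s, j s = 0 → IsNilpotent s) (h : (j.comp i).IsIntegral) : i.IsIntegral := by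
  intro s
  obtain ⟨P, hP, hPs⟩ := h (j s)
  rw [← hom_eval₂] at hPs
  obtain ⟨n, hn⟩ := hj _ hPs
  exact ⟨P ^ n, hP.pow n, by rw [eval₂_pow, hn]⟩

theorem surjective_comap_of_integral_nil {S T : Type u} [CommRing S] [CommRing T] (j : S →+* T)
    (hj : ∀ s, j s = 0 → IsNilpotent s) (h : j.IsIntegral) :
    Function.Surjective (PrimeSpectrum.comap j) := fun P => by
  letI := j.toAlgebra
  haveI : Algebra.IsIntegral S T := ⟨h⟩
  obtain ⟨Q, -, hQ, hQP⟩ := Ideal.exists_ideal_over_prime_of_isIntegral P.asIdeal (⊥ : Ideal T)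
    (fun s hs => nilpotent_iff_mem_prime.mp (hj s (by exact hs)) P.asIdeal P.isPrime)
  exact ⟨⟨Q, hQ⟩, PrimeSpectrum.ext hQP⟩

variable (hA : (minimalPrimes A).Finite) (hs : Function.Surjective (PrimeSpectrum.comap f))

include hA hs

theorem isIntegral_qRel : (η.qRel f).IsIntegral :=
  isIntegral_of_nil_ker (η.qRel f) (relToM hs) (fun _ => isNilpotent_of_relToM_eq_zero hs)
    ((relToM_comp_qRel hs).symm ▸ isIntegral_q η A hA)

theorem surjective_comap_relToM : Function.Surjective (PrimeSpectrum.comap (relToM (η := η) hs)) := by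
  refine surjective_comap_of_integral_nil _ (fun _ => isNilpotent_of_relToM_eq_zero hs) ?_
  exact RingHom.IsIntegral.tower_top (η.qRel f) _ ((relToM_comp_qRel hs).symm ▸ isIntegral_q η A hA)

theorem bijective_comap_qRel : Function.Bijective (PrimeSpectrum.comap (η.qRel f)) := by
  have hq := bijective_comap_q (η := η) hA
  have hc : ∀ P, PrimeSpectrum.comap (η.qRel f) (PrimeSpectrum.comap (relToM hs) P) =
      PrimeSpectrum.comap (η.q A) P := fun P => by
    rw [← relToM_comp_qRel hs, PrimeSpectrum.comap_comp_apply]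
  refine ⟨fun Q₁ Q₂ h => ?_, fun p => ?_⟩
  · obtain ⟨P₁, rfl⟩ := surjective_comap_relToM hA hs Q₁
    obtain ⟨P₂, rfl⟩ := surjective_comap_relToM hA hs Q₂
    rw [hc, hc] at h
    rw [hq.1 h]
  · obtain ⟨P, rfl⟩ := hq.2 p
    exact ⟨_, hc P⟩

theorem resFactor_qRel : ResFactor η (η.qRel f) := by
  rw [resFactor_iff_forall_exists_hom]
  intro Q
  obtain ⟨P, rfl⟩ := surjective_comap_relToM hA hs Q
  have hp : PrimeSpectrum.comap (η.qRel f) (PrimeSpectrum.comap (relToM hs) P) =
      PrimeSpectrum.comap (η.q A) P := by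
    rw [← relToM_comp_qRel hs, PrimeSpectrum.comap_comp_apply]
  rw [hp]
  refine ⟨(evM η _).comp (relToM hs), fun b => ?_, ?_⟩
  · conv_rhs => rw [eq_primeOver hA P]
    rfl
  · rw [RingHom.comp_assoc, relToM_comp_qRel, evM_comp_q]

theorem bijective_Nmap_qRel : Function.Bijective (η.Nmap (η.qRel f)) :=
  bijective_Nmap (bijective_comap_qRel hA hs) (resFactor_qRel hA hs)

omit hA hs

theorem range_le_rel {f₁ : A →+* B} {f₂ : B →+* C} (h₁ : f₁.IsIntegral)
    (hN : Function.Bijective (η.Nmap f₁)) : f₂.range ≤ η.rel (f₂.comp f₁) := by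
  rintro c ⟨b, rfl⟩
  obtain ⟨x, hx, hxb⟩ := (bijOn_Nmap_M h₁ hN).surjOn (η.t_mem_M B b)
  refine mem_rel hx ?_
  rw [← Nmap_Nmap, hxb, η.Nmap_t_apply]

theorem injective_of_bijective_qRel (h : Function.Bijective (η.qRel f)) : Function.Injective f :=
  fun _ _ hab => h.1 (Subtype.ext hab)

theorem exists_eq_of_bijective_qRel (h : Function.Bijective (η.qRel f)) {b : B} (hb : b ∈ η.rel f) :
    ∃ a, f a = b :=
  (h.2 ⟨b, hb⟩).imp fun _ ha => congrArg Subtype.val ha

theorem bijective_qRel_iff : Function.Bijective (η.qRel f) ↔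
    Function.Injective f ∧ ∀ b ∈ η.rel f, ∃ a, f a = b :=
  ⟨fun h => ⟨injective_of_bijective_qRel h, fun _ => exists_eq_of_bijective_qRel h⟩,
    fun h => ⟨fun _ _ hab => h.1 (congrArg Subtype.val hab), fun b => (h.2 b b.2).imp fun _ ha => Subtype.ext ha⟩⟩

theorem bijective_qRel_comp {g : B →+* C} (hgs : Function.Surjective (PrimeSpectrum.comap g))
    (h₁ : Function.Bijective (η.qRel f)) (h₂ : Function.Bijective (η.qRel g)) :
    Function.Bijective (η.qRel (g.comp f)) := by
  rw [bijective_qRel_iff] at *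
  refine ⟨h₂.1.comp h₁.1, fun c hc => ?_⟩
  obtain ⟨x, hx, hxc⟩ := exists_of_mem_rel hc
  rw [← Nmap_Nmap] at hxc
  obtain ⟨b, rfl⟩ := h₂.2 c (mem_rel (Nmap_mem_M f hx) hxc)
  rw [← η.Nmap_t_apply] at hxc
  obtain ⟨a, rfl⟩ := h₁.2 b (mem_rel hx (Nmap_injective_of_surjective hgs hxc))
  exact ⟨a, rfl⟩

theorem bijective_qRel_of_comp {g : B →+* C} (hg : Function.Injective g)
    (h : Function.Bijective (η.qRel (g.comp f))) : Function.Bijective (η.qRel f) := by
  rw [bijective_qRel_iff] at *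
  refine ⟨fun a b hab => h.1 (congrArg g hab), fun b hb => ?_⟩
  obtain ⟨a, ha⟩ := h.2 (g b) (map_mem_rel_of_square (RingHom.id A) g (RingHom.comp_id _) hb)
  exact ⟨a, hg ha⟩

end Groth.L05.EtaPt
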